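import Groth.Agent.H7Lim.Approx.Consequences
import Groth.Agent.H7Lim.IdealDescent
import Groth.Agent.H29Blow.Basic
import Groth.Agent.H12AlgSp.LocPCancel
import Groth.Prelude.Def_CurvBase

/-!
# Finite type approximation of the ideal of a closed subscheme

If a property of finite type ideals holds on a closed subscheme `X ⊆ X'`, it holds on one of the closed
subschemes cut out by a finite type ideal of `X`.
-/

set_option autoImplicit false
set_option backward.isDefEq.respectTransparency false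
set_option linter.unusedSectionVars false

universe u

open CategoryTheory CategoryTheory.Limits AlgebraicGeometry TopologicalSpace
open Groth.Agent.H7Lim

namespace Groth.Agent.H26MPA

variable {X X' : Scheme.{u}}

theorem exists_affine_mem {W : X.Opens} {x : X} (hx : x ∈ W) :
    ∃ V : X.affineOpens, x ∈ V.1 ∧ V.1 ≤ W := by
  obtain ⟨V, hV, hxV, hVW⟩ := exists_isAffineOpen_mem_and_subset hx
  exact ⟨⟨V, hV⟩, hxV, hVW⟩

theorem exists_finset_cover [CompactSpace X] (P : X.affineOpens → Prop)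
    (h : ∀ x : X, ∃ V : X.affineOpens, x ∈ V.1 ∧ P V) :
    ∃ T : Finset X.affineOpens, (∀ V ∈ T, P V) ∧ (⨆ V : T, (V.1.1 : X.Opens)) = ⊤ := by
  classical
  choose V hxV hV using h
  obtain ⟨s, hs⟩ := isCompact_univ.elim_finite_subcover (fun x => ((V x).1 : Set X))
    (fun x => (V x).1.2) (fun x _ => Set.mem_iUnion.2 ⟨x, hxV x⟩)
  refine ⟨s.image V, fun W hW => ?_, top_le_iff.1 fun x _ => ?_⟩
  · obtain ⟨y, -, rfl⟩ := Finset.mem_image.1 hW
    exact hV y
  · obtain ⟨y, hy, hxy⟩ := Set.mem_iUnion₂.1 (hs (Set.mem_univ x))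
    exact Opens.mem_iSup.2 ⟨⟨V y, Finset.mem_image_of_mem _ hy⟩, hxy⟩

theorem ideal_comap_preimage {Y : Scheme.{u}} (h : X ⟶ Y) [IsAffineHom h] (I : Y.IdealSheafData)
    (V : Y.affineOpens) :
    (I.comap h).ideal ⟨h ⁻¹ᵁ V.1, V.2.preimage h⟩ = (I.ideal V).map (h.app V.1).hom := by
  rw [H29Blow.ideal_comap I h V ⟨h ⁻¹ᵁ V.1, V.2.preimage h⟩ le_rfl, Scheme.Hom.appLE_eq_app]

theorem fg_of_effCartier {I : X.IdealSheafData} (hI : BlowUp.IsEffCartierIdeal I) (A : X.affineOpens) :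
    (I.ideal A).FG := by
  refine fg_of_cover A.2 _ fun y hy => ?_
  obtain ⟨U, hyU, -, a, -, ha⟩ := H29Blow.exists_gen hI (x := y) (W := A.1) hy
  obtain ⟨g, hg, hyg⟩ := A.2.exists_basicOpen_le ⟨y, hyU⟩ hy
  refine ⟨g, hyg, ?_⟩
  have h3 := I.map_ideal (U := ⟨X.basicOpen g, A.2.basicOpen g⟩) (V := A) (X.basicOpen_le g)
  change (I.ideal A).map (rs (X.basicOpen_le g)) = _ at h3
  rw [h3, ← I.map_ideal (U := ⟨X.basicOpen g, A.2.basicOpen g⟩) (V := U) hg, ha]
  exact Ideal.FG.map ⟨{a}, by simp⟩ _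

theorem fg_comap {Y : Scheme.{u}} (f : X ⟶ Y) (I : Y.IdealSheafData)
    (hI : ∀ U : Y.affineOpens, (I.ideal U).FG) (A : X.affineOpens) : ((I.comap f).ideal A).FG := by
  refine fg_of_cover A.2 _ fun y hy => ?_
  obtain ⟨U, hyU, -⟩ := exists_affine_mem (show f y ∈ (⊤ : Y.Opens) from trivial)
  obtain ⟨g, hg, hyg⟩ := A.2.exists_basicOpen_le (V := f ⁻¹ᵁ U.1) ⟨y, hyU⟩ hy
  refine ⟨g, hyg, ?_⟩
  have h3 := (I.comap f).map_ideal (U := ⟨X.basicOpen g, A.2.basicOpen g⟩) (V := A) (X.basicOpen_le g)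
  change ((I.comap f).ideal A).map (rs (X.basicOpen_le g)) = _ at h3
  rw [h3, H29Blow.ideal_comap I f U ⟨X.basicOpen g, A.2.basicOpen g⟩ hg]
  exact Ideal.FG.map (hI U) _

theorem comap_subschemeι_self (K : X.IdealSheafData) : K.comap K.subschemeι = ⊥ := by
  refine le_bot_iff.1 (Scheme.IdealSheafData.le_map_iff_comap_le.1 ?_)
  rw [Scheme.IdealSheafData.map_bot, Scheme.IdealSheafData.ker_subschemeι]

theorem map_comap_of_isClosedImmersion (j : X ⟶ X') [IsClosedImmersion j] (B : X'.IdealSheafData) :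
    (B.comap j).map j = B ⊔ j.ker := by
  refine Scheme.IdealSheafData.ext_of_iSup_eq_top (fun U : X'.affineOpens => U)
    (iSup_affineOpens_eq_top _) fun U => ?_
  rw [Scheme.IdealSheafData.ideal_map_of_isAffineHom, ideal_comap_preimage,
    Ideal.comap_map_of_surjective' _ (j.app_surjective U.1 U.2), Scheme.IdealSheafData.ideal_sup,
    Pi.sup_apply, Scheme.Hom.ker_apply]

theorem comap_map_eq (j : X ⟶ X') [IsClosedImmersion j] (I : X.IdealSheafData) :
    (I.map j).comap j = I := by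
  refine le_antisymm (Scheme.IdealSheafData.comap_map_le _ _) ?_
  refine Scheme.IdealSheafData.le_of_iSup_eq_top
    (fun V : X'.affineOpens => ⟨j ⁻¹ᵁ V.1, V.2.preimage j⟩) ?_ fun V => ?_
  · exact (j.preimage_iSup _).symm.trans
      ((congrArg (j ⁻¹ᵁ ·) (iSup_affineOpens_eq_top X')).trans j.preimage_top)
  · rw [ideal_comap_preimage, Scheme.IdealSheafData.ideal_map_of_isAffineHom,
      Ideal.map_comap_of_surjective _ (j.app_surjective V.1 V.2)]

variable [CompactSpace X'] [QuasiSeparatedSpace X'] {𝒦 : X'.IdealSheafData}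

theorem exists_upper {ι : Type*} [Finite ι] (K : ι → FTIdeal 𝒦) :
    ∃ K₀ : FTIdeal 𝒦, ∀ i, (K i).1 ≤ K₀.1 := by
  obtain ⟨K₀, h⟩ := Finite.exists_le K
  exact ⟨K₀, h⟩

/-- An inclusion modulo `𝒦` over an affine open holds modulo a finite type subideal. -/
theorem exists_le_sup_local (V : X'.affineOpens) (N M : Ideal Γ(X', V)) (hN : N.FG)
    (h : N ≤ M ⊔ 𝒦.ideal V) : ∃ K : FTIdeal 𝒦, N ≤ M ⊔ K.1.ideal V := by
  classical
  obtain ⟨s, hs⟩ := hN
  have h' : ∀ t : s, ∃ k ∈ 𝒦.ideal V, (t : Γ(X', V)) - k ∈ M := by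
    intro t
    obtain ⟨m, hm, k, hk, e⟩ := Submodule.mem_sup.1 (h (hs.le (Submodule.subset_span t.2)))
    exact ⟨k, hk, by rwa [← e, add_sub_cancel_right]⟩
  choose k hk hkM using h'
  obtain ⟨K, hK, hfg, hmem⟩ := exists_finiteType_le 𝒦 V (Finset.univ.image k) (by
    intro x hx
    obtain ⟨t, -, rfl⟩ := Finset.mem_image.1 hx
    exact hk t)
  refine ⟨⟨K, hK, hfg⟩, ?_⟩
  rw [← hs, Submodule.span_le]
  intro t ht
  exact Submodule.mem_sup.2 ⟨_, hkM ⟨t, ht⟩, k ⟨t, ht⟩,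
    hmem (Finset.mem_image_of_mem _ (Finset.mem_univ _)), sub_add_cancel _ _⟩

/-- An inclusion of a finite type ideal modulo `𝒦` holds modulo a finite type subideal. -/
theorem exists_le_sup (A B : X'.IdealSheafData) (hA : ∀ U : X'.affineOpens, (A.ideal U).FG)
    (h : A ≤ B ⊔ 𝒦) : ∃ K : FTIdeal 𝒦, A ≤ B ⊔ K.1 := by
  obtain ⟨T, -, hT⟩ := exists_finset_cover (X := X') (fun _ => True) fun x => by
    obtain ⟨V, hV, -⟩ := exists_affine_mem (show x ∈ (⊤ : X'.Opens) from trivial)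
    exact ⟨V, hV, trivial⟩
  have h' : ∀ V : T, ∃ K : FTIdeal 𝒦, A.ideal V.1 ≤ B.ideal V.1 ⊔ K.1.ideal V.1 := fun V =>
    exists_le_sup_local V.1 _ _ (hA _) (by
      have := h V.1
      rwa [Scheme.IdealSheafData.ideal_sup] at this)
  choose K hK using h'
  obtain ⟨K₀, hK₀⟩ := exists_upper K
  refine ⟨K₀, Scheme.IdealSheafData.le_of_iSup_eq_top (fun V : T => V.1) hT fun V => ?_⟩
  rw [Scheme.IdealSheafData.ideal_sup]
  exact (hK V).trans (sup_le_sup le_rfl (hK₀ V V.1))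

/-- A comparison of pullbacks to a closed subscheme descends to a stage. -/
theorem exists_comap_le (j : X ⟶ X') [IsClosedImmersion j] (A B : X'.IdealSheafData)
    (hA : ∀ U : X'.affineOpens, (A.ideal U).FG) (h : A.comap j ≤ B.comap j) :
    ∃ K₀ : FTIdeal j.ker, ∀ K : FTIdeal j.ker, K₀ ≤ K →
      A.comap K.1.subschemeι ≤ B.comap K.1.subschemeι := by
  obtain ⟨K₀, hK₀⟩ := exists_le_sup A B hA
    ((Scheme.IdealSheafData.le_map_iff_comap_le.2 h).trans (map_comap_of_isClosedImmersion j B).le)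
  refine ⟨K₀, fun K hK => ?_⟩
  refine (Scheme.IdealSheafData.comap_mono _ (hK₀.trans (sup_le_sup le_rfl hK))).trans ?_
  show (B ⊔ K.1).comap _ ≤ _
  rw [Scheme.IdealSheafData.comap_sup, comap_subschemeι_self, sup_bot_eq]

/-- A finite type ideal on a closed subscheme extends to a finite type ideal. -/
theorem exists_ft_extension (j : X ⟶ X') [IsClosedImmersion j] (I : X.IdealSheafData)
    (hI : ∀ U : X.affineOpens, (I.ideal U).FG) :
    ∃ J : X'.IdealSheafData, (∀ U : X'.affineOpens, (J.ideal U).FG) ∧ J.comap j = I := by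
  classical
  obtain ⟨T, -, hT⟩ := exists_finset_cover (X := X') (fun _ => True) fun x => by
    obtain ⟨V, hV, -⟩ := exists_affine_mem (show x ∈ (⊤ : X'.Opens) from trivial)
    exact ⟨V, hV, trivial⟩
  have h' : ∀ V : T, ∃ J : FTIdeal (I.map j),
      I.ideal ⟨j ⁻¹ᵁ V.1.1, V.1.2.preimage j⟩ ≤ (J.1.ideal V.1).map (j.app V.1.1).hom := by
    intro V
    obtain ⟨s, hs⟩ := hI ⟨j ⁻¹ᵁ V.1.1, V.1.2.preimage j⟩
    choose l hl using j.app_surjective V.1.1 V.1.2
    obtain ⟨J, hJ, hfg, hmem⟩ := exists_finiteType_le (I.map j) V.1 (s.image l) (by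
      intro x hx
      obtain ⟨t, ht, rfl⟩ := Finset.mem_image.1 hx
      rw [SetLike.mem_coe, Scheme.IdealSheafData.ideal_map_of_isAffineHom, Ideal.mem_comap, hl, ← hs]
      exact Submodule.subset_span ht)
    refine ⟨⟨J, hJ, hfg⟩, ?_⟩
    rw [← hs, Submodule.span_le]
    intro t ht
    rw [SetLike.mem_coe, ← hl t]
    exact Ideal.mem_map_of_mem _ (hmem (Finset.mem_image_of_mem _ ht))
  choose J hJ using h'
  obtain ⟨J₀, hJ₀⟩ := exists_upper J
  refine ⟨J₀.1, J₀.2.2, le_antisymm (Scheme.IdealSheafData.le_map_iff_comap_le.1 J₀.2.1) ?_⟩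
  refine Scheme.IdealSheafData.le_of_iSup_eq_top
    (fun V : T => ⟨j ⁻¹ᵁ V.1.1, V.1.2.preimage j⟩) ?_ fun V => ?_
  · exact (j.preimage_iSup _).symm.trans ((congrArg (j ⁻¹ᵁ ·) hT).trans j.preimage_top)
  · rw [ideal_comap_preimage]
    exact (hJ V).trans (Ideal.map_mono (hJ₀ V V.1))

/-- Near every point, a finite type extension of a locally principal ideal is principal modulo the kernel. -/
theorem exists_principal_chart (j : X ⟶ X') [IsClosedImmersion j] (I : X.IdealSheafData)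
    (hI : BlowUp.IsEffCartierIdeal I) (J : X'.IdealSheafData) (hJ : J.comap j = I) (x : X') :
    ∃ V : X'.affineOpens, x ∈ V.1 ∧
      ∃ a ∈ J.ideal V, J.ideal V ≤ Ideal.span {a} ⊔ j.ker.ideal V := by
  by_cases hx : x ∈ Set.range j
  · obtain ⟨p, rfl⟩ := hx
    obtain ⟨U, hpU, g, -, hg⟩ := hI p
    obtain ⟨W, hW, hWU⟩ := j.isClosedEmbedding.isInducing.isOpen_iff.1 U.1.2
    obtain ⟨V, hV, hVW⟩ := exists_affine_mem
      (show j p ∈ (⟨W, hW⟩ : X'.Opens) from (Set.ext_iff.1 hWU p).2 hpU)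
    have hle : j ⁻¹ᵁ V.1 ≤ U.1 := fun q hq => (Set.ext_iff.1 hWU q).1 (hVW hq)
    have hgen : I.ideal ⟨j ⁻¹ᵁ V.1, V.2.preimage j⟩ =
        Ideal.span {(X.presheaf.map (homOfLE hle).op).hom g} := by
      rw [← I.map_ideal (U := ⟨j ⁻¹ᵁ V.1, V.2.preimage j⟩) (V := U) hle, hg, Ideal.map_span,
        Set.image_singleton]
      rfl
    rw [← hJ, ideal_comap_preimage] at hgen
    obtain ⟨a, ha, hae⟩ := (Ideal.mem_map_iff_of_surjective _ (j.app_surjective V.1 V.2)).1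
      (hgen ▸ Ideal.mem_span_singleton_self _)
    refine ⟨V, hV, a, ha, fun t ht => ?_⟩
    have h1 := Ideal.mem_map_of_mem (j.app V.1).hom ht
    rw [hgen, ← hae, Ideal.mem_span_singleton'] at h1
    obtain ⟨c, hc⟩ := h1
    obtain ⟨c, rfl⟩ := j.app_surjective V.1 V.2 c
    refine Submodule.mem_sup.2 ⟨c * a, Ideal.mul_mem_left _ _ (Ideal.mem_span_singleton_self a),
      t - c * a, ?_, add_sub_cancel _ _⟩
    rw [Scheme.Hom.ker_apply, RingHom.mem_ker, map_sub, map_mul, hc, sub_self]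
  · obtain ⟨V, hV, hVW⟩ := exists_affine_mem
      (show x ∈ (⟨(Set.range j)ᶜ, j.isClosedEmbedding.isClosed_range.isOpen_compl⟩ : X'.Opens) from hx)
    have he : j ⁻¹ᵁ V.1 = ⊥ := le_bot_iff.1 fun q hq => absurd ⟨q, rfl⟩ (hVW hq)
    have : Subsingleton Γ(X, j ⁻¹ᵁ V.1) := by rw [he]; infer_instance
    refine ⟨V, hV, 0, zero_mem _, fun t _ => Submodule.mem_sup_right ?_⟩
    rw [Scheme.Hom.ker_apply, RingHom.mem_ker]
    exact Subsingleton.elim _ _

/-- A finite type extension of an effective Cartier ideal is locally principal on some stage. -/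
theorem exists_locPrincipal (j : X ⟶ X') [IsClosedImmersion j] (I : X.IdealSheafData)
    (hI : BlowUp.IsEffCartierIdeal I) (J : X'.IdealSheafData) (hJ : J.comap j = I)
    (hJfg : ∀ U : X'.affineOpens, (J.ideal U).FG) :
    ∃ K₀ : FTIdeal j.ker, ∀ K : FTIdeal j.ker, K₀ ≤ K →
      Curv2.IsLocPrincipal (J.comap K.1.subschemeι) := by
  obtain ⟨T, hTP, hT⟩ := exists_finset_cover _ (exists_principal_chart j I hI J hJ)
  have h' : ∀ V : T, ∃ a ∈ J.ideal V.1, ∃ K : FTIdeal j.ker,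
      J.ideal V.1 ≤ Ideal.span {a} ⊔ K.1.ideal V.1 := by
    intro V
    obtain ⟨a, ha, h⟩ := hTP V.1 V.2
    exact ⟨a, ha, exists_le_sup_local V.1 _ _ (hJfg _) h⟩
  choose a ha K₁ hK₁ using h'
  obtain ⟨K₀, hK₀⟩ := exists_upper K₁
  refine ⟨K₀, fun K hK y _ => ?_⟩
  obtain ⟨V, hyV⟩ := Opens.mem_iSup.1 (hT.ge (show K.1.subschemeι y ∈ ⊤ from trivial))
  refine ⟨⟨K.1.subschemeι ⁻¹ᵁ V.1.1, V.1.2.preimage _⟩, hyV,
    (K.1.subschemeι.app V.1.1).hom (a V), ?_⟩
  rw [ideal_comap_preimage]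
  refine le_antisymm ?_ ((Ideal.span_singleton_le_iff_mem _).2 (Ideal.mem_map_of_mem _ (ha V)))
  refine (Ideal.map_mono ((hK₁ V).trans (sup_le_sup le_rfl ((hK₀ V).trans hK V.1)))).trans (le_of_eq ?_)
  rw [Ideal.map_sup, Ideal.map_span, Set.image_singleton, sup_eq_left,
    Ideal.map_le_iff_le_comap]
  intro z hz
  rw [← K.1.ker_subschemeι, Scheme.Hom.ker_apply, RingHom.mem_ker] at hz
  rw [Ideal.mem_comap, hz]
  exact zero_mem _

theorem ker_morphismRestrict {Y : Scheme.{u}} (f : X ⟶ Y) [QuasiCompact f] (U : Y.Opens) :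
    (f ∣_ U).ker = f.ker.comap U.ι := by
  ext1
  funext V
  rw [Scheme.ker_morphismRestrict_ideal, Scheme.IdealSheafData.ideal_comap_of_isOpenImmersion,
    Scheme.Opens.ι_appIso]
  rfl

/-- If the kernel is of finite type over a quasi-compact open, the stages agree with it there. -/
theorem exists_comap_ι_eq (𝒦 : X'.IdealSheafData) (W : X'.Opens) (hW : IsCompact (W : Set X'))
    (h : ∀ V : X'.affineOpens, V.1 ≤ W → (𝒦.ideal V).FG) :
    ∃ K₀ : FTIdeal 𝒦, ∀ K : FTIdeal 𝒦, K₀ ≤ K → K.1.comap W.ι = 𝒦.comap W.ι := by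
  obtain ⟨S, hS, hSe⟩ := isCompact_iff_finite_and_eq_biUnion_affineOpens.1 hW
  have hle : ∀ V : S, V.1.1 ≤ W := fun V => (le_iSup₂ V.1 V.2).trans_eq hSe.symm
  have h' : ∀ V : S, ∃ K : FTIdeal 𝒦, 𝒦.ideal V.1 ≤ K.1.ideal V.1 := fun V => by
    obtain ⟨K, hK⟩ := exists_le_sup_local (𝒦 := 𝒦) V.1 _ ⊥ (h V.1 (hle V)) (by rw [bot_sup_eq])
    exact ⟨K, by rwa [bot_sup_eq] at hK⟩
  choose K₁ hK₁ using h'
  haveI := hS.to_subtype
  obtain ⟨K₀, hK₀⟩ := exists_upper K₁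
  refine ⟨K₀, fun K hK => le_antisymm (Scheme.IdealSheafData.comap_mono _ K.2.1) ?_⟩
  have hA : ∀ V : S, IsAffineOpen (W.ι ⁻¹ᵁ V.1.1) := fun V =>
    V.1.2.preimage_of_isOpenImmersion W.ι (by rw [Scheme.Opens.opensRange_ι]; exact hle V)
  refine Scheme.IdealSheafData.le_of_iSup_eq_top (fun V : S => ⟨W.ι ⁻¹ᵁ V.1.1, hA V⟩) ?_ fun V => ?_
  · refine top_le_iff.1 fun x _ => ?_
    obtain ⟨V, hV⟩ := Opens.mem_iSup.1 (hSe.le x.2)
    obtain ⟨hVS, hxV⟩ := Opens.mem_iSup.1 hV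
    exact Opens.mem_iSup.2 ⟨⟨V, hVS⟩, hxV⟩
  · rw [H29Blow.ideal_comap 𝒦 W.ι V.1 ⟨_, hA V⟩ le_rfl,
      H29Blow.ideal_comap K.1 W.ι V.1 ⟨_, hA V⟩ le_rfl]
    exact Ideal.map_mono ((hK₁ V).trans ((hK₀ V).trans hK V.1))

omit [CompactSpace X'] [QuasiSeparatedSpace X'] in
/-- The inclusion is an isomorphism where the ideals agree. -/
theorem isIso_inclusion_restrict {K L : X'.IdealSheafData} (hKL : K ≤ L) (W : X'.Opens)
    (h : K.comap W.ι = L.comap W.ι) :
    IsIso (Scheme.IdealSheafData.inclusion hKL ∣_ (K.subschemeι ⁻¹ᵁ W)) := by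
  haveI : IsClosedImmersion (Scheme.IdealSheafData.inclusion hKL ≫ K.subschemeι) := by
    rw [Scheme.IdealSheafData.inclusion_subschemeι]; infer_instance
  haveI := IsClosedImmersion.of_comp_isClosedImmersion (Scheme.IdealSheafData.inclusion hKL) K.subschemeι
  have hker : (Scheme.IdealSheafData.inclusion hKL).ker = L.comap K.subschemeι := by
    have h2 : (Scheme.IdealSheafData.inclusion hKL).ker.map K.subschemeι = L := by
      rw [← Scheme.Hom.ker_comp, Scheme.IdealSheafData.inclusion_subschemeι, L.ker_subschemeι]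
    rw [← congrArg (Scheme.IdealSheafData.comap · K.subschemeι) h2]
    exact (comap_map_eq K.subschemeι _).symm
  haveI : IsClosedImmersion (Scheme.IdealSheafData.inclusion hKL ∣_ (K.subschemeι ⁻¹ᵁ W)) :=
    IsZariskiLocalAtTarget.restrict ‹_› _
  rw [IsClosedImmersion.isIso_iff_ker_eq_bot, ker_morphismRestrict, hker,
    ← Scheme.IdealSheafData.comap_comp, ← morphismRestrict_ι, Scheme.IdealSheafData.comap_comp, ← h,
    ← Scheme.IdealSheafData.comap_comp, morphismRestrict_ι, Scheme.IdealSheafData.comap_comp,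
    comap_subschemeι_self, Scheme.IdealSheafData.comap_bot]

/-- The kernel of a closed immersion over which a finitely presented morphism restricts to an isomorphism. -/
theorem ker_fg_over {Y : Scheme.{u}} (j : X ⟶ X') [IsClosedImmersion j] (f' : X' ⟶ Y)
    [LocallyOfFiniteType f'] (U : Y.Opens) (h : IsIso ((j ≫ f') ∣_ U)) (V : X'.affineOpens)
    (hV : V.1 ≤ f' ⁻¹ᵁ U) : (j.ker.ideal V).FG := by
  rw [morphismRestrict_comp] at h
  haveI : IsClosedImmersion (j ∣_ f' ⁻¹ᵁ U) :=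
    IsZariskiLocalAtTarget.restrict (show IsClosedImmersion j from ‹_›) _
  haveI : LocallyOfFiniteType (f' ∣_ U) := IsZariskiLocalAtTarget.restrict (show LocallyOfFiniteType f' from ‹_›) _
  haveI : LocallyOfFinitePresentation (j ∣_ f' ⁻¹ᵁ U ≫ f' ∣_ U) := by haveI := h; infer_instance
  haveI := H12AlgSp.lfp_of_comp (j ∣_ f' ⁻¹ᵁ U) (f' ∣_ U)
  have hA : IsAffineOpen ((f' ⁻¹ᵁ U).ι ⁻¹ᵁ V.1) :=
    V.2.preimage_of_isOpenImmersion _ (by rw [Scheme.Opens.opensRange_ι]; exact hV)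
  have h1 := ker_fg_of_locallyOfFinitePresentation (j ∣_ f' ⁻¹ᵁ U) ⟨_, hA⟩
  rw [Scheme.ker_morphismRestrict_ideal] at h1
  have he : (⟨(f' ⁻¹ᵁ U).ι ''ᵁ (f' ⁻¹ᵁ U).ι ⁻¹ᵁ V.1, hA.image_of_isOpenImmersion _⟩ : X'.affineOpens)
      = V := by
    ext1
    show (f' ⁻¹ᵁ U).ι ''ᵁ (f' ⁻¹ᵁ U).ι ⁻¹ᵁ V.1 = V.1
    rw [Scheme.Hom.image_preimage_eq_opensRange_inf, Scheme.Opens.opensRange_ι, inf_eq_right]
    exact hV
  exact he ▸ h1

end Groth.Agent.H26MPA
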