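import Groth.Agent.H26MPA.Basic
import Groth.Agent.H26ModPair.AmbProd
import Groth.Agent.H26Lim.IdealLe
import Groth.Agent.H7Lim.Sections
import Groth.Agent.S18738

/-!
# Cofiltered systems of modulus pairs with affine minimal transition morphisms

Their limits, and their base change along admissible blow-ups of one of the stages.
-/

set_option autoImplicit false
set_option backward.isDefEq.respectTransparency false
set_option backward.defeqAttrib.useBackward true

universe u

open CategoryTheory CategoryTheory.Limits AlgebraicGeometry TopologicalSpace ModPair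
open Groth.Agent.H7Lim Groth.Agent.H26ModPair

namespace Groth.Agent.H26MPA

theorem nzd_of_principal {X : Scheme.{u}} {K : X.IdealSheafData} (hK : BlowUp.IsEffCartierIdeal K)
    (U : X.affineOpens) (g : Γ(X, U.1)) (hg : K.ideal U = Ideal.span {g}) :
    g ∈ nonZeroDivisors Γ(X, U.1) := by
  rw [mem_nonZeroDivisors_iff_right]
  intro a ha
  rw [← Submodule.mem_bot (R := Γ(X, U.1))]
  refine mem_of_cover U.2 ⊥ a fun y hy => ?_
  obtain ⟨W, hyW, hWU, e, he, hW⟩ := H29Blow.exists_gen hK (x := y) (W := U.1) hy
  obtain ⟨b, hb, hyb⟩ := U.2.exists_basicOpen_le ⟨y, hyW⟩ hy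
  refine ⟨b, hyb, ?_⟩
  rw [Ideal.map_bot, Ideal.mem_bot]
  have h2 : K.ideal W = Ideal.span {rs hWU g} := by
    rw [← K.map_ideal (U := W) (V := U) hWU, hg, Ideal.map_span, Set.image_singleton]
    rfl
  have hnzd : rs hWU g ∈ nonZeroDivisors Γ(X, W.1) := by
    rw [hW] at h2
    obtain ⟨p, hp⟩ := Ideal.mem_span_singleton'.1 (h2.le (Ideal.mem_span_singleton_self e))
    exact (mul_mem_nonZeroDivisors.1 (hp ▸ he)).2
  have h3 : rs hWU a = 0 := (mem_nonZeroDivisors_iff_right.1 hnzd) _ (by rw [← map_mul, ha, map_zero])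
  rw [← rs_rs hb hWU, h3, map_zero]

section limit

variable {I : Type u} [Category.{u} I] [IsCofiltered I] {D : I ⥤ Scheme.{u}} {c : Cone D}
  [∀ (i j : I) (t : i ⟶ j), IsAffineHom (D.map t)]

/-- The pullback to the limit of a compatible system of effective Cartier divisors is effective. -/
theorem isEff_comap_limit (hc : IsLimit c) (J : ∀ i, (D.obj i).IdealSheafData)
    (hJ : ∀ i, BlowUp.IsEffCartierIdeal (J i))
    (hmin : ∀ (i j : I) (t : i ⟶ j), J i = (J j).comap (D.map t)) (i : I) :
    BlowUp.IsEffCartierIdeal ((J i).comap (c.π.app i)) := fun x => by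
  haveI := fun i => isAffineHom_π_app D c hc i
  obtain ⟨U, hxU, g, -, hg⟩ := hJ i (c.π.app i x)
  refine ⟨⟨c.π.app i ⁻¹ᵁ U.1, U.2.preimage _⟩, hxU, ((c.π.app i).app U.1).hom g, ?_, ?_⟩
  · rw [mem_nonZeroDivisors_iff_right]
    intro s hs
    obtain ⟨j, φ, a, rfl⟩ := exists_secπ_eq hc U.2 s
    obtain ⟨k, ψ, hk⟩ := exists_secMap_eq hc φ U.2.isCompact (a * ((D.map φ).app U.1).hom g) 0 (by
      rw [map_mul, map_zero]
      refine Eq.trans ?_ hs
      congr 1
      simp only [secπ, ← CommRingCat.comp_apply, Scheme.Hom.app_eq_appLE, Scheme.Hom.appLE_comp_appLE,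
        c.w φ]
      rfl)
    have e : (secMap φ ψ U.1).hom (((D.map φ).app U.1).hom g) = ((D.map (ψ ≫ φ)).app U.1).hom g := by
      simp only [secMap, ← CommRingCat.comp_apply, Scheme.Hom.app_eq_appLE, Scheme.Hom.appLE_comp_appLE,
        ← D.map_comp]
    rw [map_mul, map_zero, e] at hk
    have h0 : (secMap φ ψ U.1).hom a = 0 := by
      refine (mem_nonZeroDivisors_iff_right.1 ?_) _ hk
      refine nzd_of_principal (hJ k) ⟨D.map (ψ ≫ φ) ⁻¹ᵁ U.1, U.2.preimage _⟩ _ ?_
      rw [hmin k i (ψ ≫ φ), ideal_comap_preimage, hg, Ideal.map_span, Set.image_singleton]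
    exact (secπ_secMap_apply φ ψ U.1 a).symm.trans ((congrArg _ h0).trans (map_zero _))
  · rw [ideal_comap_preimage, hg, Ideal.map_span, Set.image_singleton]

end limit

/-- A cofiltered system of modulus pairs with affine minimal transition maps and its limit. -/
structure IsGood {I : Type u} [Category.{u} I] (P : I ⥤ Pair.{u}) (c : Cone P) : Prop where
  affine : ∀ (i j : I) (t : i ⟶ j), IsAffineHom (P.map t).hom
  compact : ∀ i, CompactSpace (P.obj i).total
  qs : ∀ i, QuasiSeparatedSpace (P.obj i).total
  minimal : ∀ (i j : I) (t : i ⟶ j), (P.obj i).mod = (P.obj j).mod.comap (P.map t).hom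
  minimal' : ∀ i, c.pt.mod = (P.obj i).mod.comap (c.π.app i).hom
  isLimit : Nonempty (IsLimit (Pair.forget.mapCone c))

theorem pair_hom_comp {A B C : Pair.{u}} (f : A ⟶ B) (g : B ⟶ C) : (f ≫ g).hom = f.hom ≫ g.hom := rfl

section refine

variable {I : Type u} [Category.{u} I] (P : I ⥤ Pair.{u}) (i : I)
  {W : Scheme.{u}} (s : W ⟶ (P.obj i).total)

/-- The preimage of the interior in the base change of `s` to stage `j`. -/
noncomputable def refineOpen (j : Over i) : (pullback s (P.map j.hom).hom).Opens :=
  pullback.snd s (P.map j.hom).hom ⁻¹ᵁ ModPair.interior (P.obj j.left).mod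

instance isAffineHom_refineOpen (j : Over i) : IsAffineHom (refineOpen P i s j).ι :=
  haveI := isAffineHom_interior (P.obj j.left).isEffCartier
  MorphismProperty.of_isPullback (P := @IsAffineHom) (isPullback_morphismRestrict _ _).flip.flip inferInstance

/-- The closure of the interior in the base change of `s` to stage `j`, with the pulled back modulus. -/
noncomputable def refineObj (j : Over i) : Pair.{u} where
  total := (refineOpen P i s j).ι.image
  mod := (P.obj j.left).mod.comap ((refineOpen P i s j).ι.imageι ≫ pullback.snd s (P.map j.hom).hom)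
  isEffCartier := by
    refine isEff_comap_of_dense (P.obj j.left).isEffCartier _ ?_
    rw [Scheme.Hom.comp_preimage]
    exact dense_image (refineOpen P i s j)

/-- Its map to stage `j`. -/
noncomputable def refineσ (j : Over i) : refineObj P i s j ⟶ P.obj j.left :=
  ⟨(refineOpen P i s j).ι.imageι ≫ pullback.snd s (P.map j.hom).hom, le_rfl⟩

theorem interior_refineObj (j : Over i) :
    ModPair.interior (refineObj P i s j).mod = (refineOpen P i s j).ι.imageι ⁻¹ᵁ refineOpen P i s j :=
  (preimage_interior ((refineOpen P i s j).ι.imageι ≫ pullback.snd s (P.map j.hom).hom) _).symm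

theorem map_hom_eq {j k : Over i} (f : j ⟶ k) :
    (P.map f.left).hom ≫ (P.map k.hom).hom = (P.map j.hom).hom := by
  rw [← Over.w f, P.map_comp, pair_hom_comp]

/-- The map of base changes. -/
noncomputable abbrev refinePb {j k : Over i} (f : j ⟶ k) :
    pullback s (P.map j.hom).hom ⟶ pullback s (P.map k.hom).hom :=
  pullback.map _ _ _ _ (𝟙 W) (P.map f.left).hom (𝟙 _) (by simp) (by rw [Category.comp_id, map_hom_eq])

variable (hmin : ∀ (i j : I) (t : i ⟶ j), (P.obj i).mod = (P.obj j).mod.comap (P.map t).hom)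
include hmin

theorem refineOpen_map {j k : Over i} (f : j ⟶ k) :
    refinePb P i s f ⁻¹ᵁ refineOpen P i s k = refineOpen P i s j := by
  simp only [refineOpen]
  rw [← Scheme.Hom.comp_preimage, pullback.lift_snd, Scheme.Hom.comp_preimage, preimage_interior,
    ← hmin]

theorem exists_refineMap {j k : Over i} (f : j ⟶ k) : ∃ g : (refineObj P i s j).total ⟶ (refineObj P i s k).total,
    g ≫ (refineOpen P i s k).ι.imageι = (refineOpen P i s j).ι.imageι ≫ refinePb P i s f := by
  haveI := dominant_interior (refineObj P i s j).isEffCartier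
  refine exists_lift_image _ _ (ModPair.interior (refineObj P i s j).mod) ?_
  rw [interior_refineObj, Scheme.Hom.comp_preimage, refineOpen_map P i s hmin]

/-- The transition map. -/
noncomputable def refineHom {j k : Over i} (f : j ⟶ k) :
    (refineObj P i s j).total ⟶ (refineObj P i s k).total :=
  (exists_refineMap P i s hmin f).choose

@[reassoc]
theorem refineHom_ι {j k : Over i} (f : j ⟶ k) :
    refineHom P i s hmin f ≫ (refineOpen P i s k).ι.imageι =
      (refineOpen P i s j).ι.imageι ≫ refinePb P i s f :=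
  (exists_refineMap P i s hmin f).choose_spec

theorem refineHom_mod {j k : Over i} (f : j ⟶ k) :
    (refineObj P i s j).mod = (refineObj P i s k).mod.comap (refineHom P i s hmin f) := by
  show (P.obj j.left).mod.comap ((refineOpen P i s j).ι.imageι ≫ pullback.snd s (P.map j.hom).hom) =
    ((P.obj k.left).mod.comap ((refineOpen P i s k).ι.imageι ≫ pullback.snd s (P.map k.hom).hom)).comap _
  rw [← Scheme.IdealSheafData.comap_comp, refineHom_ι_assoc P i s hmin f, pullback.lift_snd,
    hmin _ _ f.left, ← Scheme.IdealSheafData.comap_comp]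
  simp only [Category.assoc]

/-- The refined system. -/
noncomputable def refineSys : Over i ⥤ Pair.{u} where
  obj := refineObj P i s
  map f := ⟨refineHom P i s hmin f, (refineHom_mod P i s hmin f).le⟩
  map_id j := Pair.Hom.ext <| by
    show refineHom P i s hmin (𝟙 j) = 𝟙 _
    rw [← cancel_mono (refineOpen P i s j).ι.imageι, refineHom_ι, Category.id_comp]
    conv_rhs => rw [← Category.comp_id (refineOpen P i s j).ι.imageι]
    congr 1
    apply pullback.hom_ext <;> simp <;> rfl
  map_comp {j k l} f g := Pair.Hom.ext <| by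
    show refineHom P i s hmin (f ≫ g) = refineHom P i s hmin f ≫ refineHom P i s hmin g
    rw [← cancel_mono (refineOpen P i s l).ι.imageι, refineHom_ι, Category.assoc, refineHom_ι,
      refineHom_ι_assoc]
    congr 1
    apply pullback.hom_ext <;> simp [pair_hom_comp]

theorem refineSys_σ {j k : Over i} (f : j ⟶ k) :
    (refineSys P i s hmin).map f ≫ refineσ P i s k = refineσ P i s j ≫ P.map f.left := Pair.Hom.ext <| by
  show refineHom P i s hmin f ≫ _ = ((refineOpen P i s j).ι.imageι ≫ _) ≫ _
  rw [refineσ, refineHom_ι_assoc, pullback.lift_snd, Category.assoc]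

end refine

section proj

variable {I : Type u} [Category.{u} I] (P : I ⥤ Pair.{u}) (i : I)
  {W : Pair.{u}} (s : W ⟶ P.obj i) (hs : Pair.admBlowup s)
  (hmin : ∀ (i j : I) (t : i ⟶ j), (P.obj i).mod = (P.obj j).mod.comap (P.map t).hom)

/-- The map of the refined system to the blow-up. -/
noncomputable def refineW (j : Over i) : refineObj P i s.hom j ⟶ W :=
  ⟨(refineOpen P i s.hom j).ι.imageι ≫ pullback.fst s.hom (P.map j.hom).hom, by
    show (refineObj P i s.hom j).mod ≤ _
    rw [(hs.1 : W.mod = _), ← Scheme.IdealSheafData.comap_comp, Category.assoc, pullback.condition,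
      ← Category.assoc, Scheme.IdealSheafData.comap_comp, ← hmin j.left i j.hom]
    exact le_rfl⟩

theorem refineW_fac (j : Over i) :
    refineW P i s hs hmin j ≫ s = refineσ P i s.hom j ≫ P.map j.hom := Pair.Hom.ext <| by
  show (_ ≫ _) ≫ _ = (_ ≫ _) ≫ _
  rw [Category.assoc, pullback.condition, Category.assoc]

theorem refineW_map {j k : Over i} (f : j ⟶ k) :
    (refineSys P i s.hom hmin).map f ≫ refineW P i s hs hmin k = refineW P i s hs hmin j := Pair.Hom.ext <| by
  show refineHom P i s.hom hmin f ≫ _ = _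
  rw [refineW, refineHom_ι_assoc, pullback.lift_fst, Category.comp_id]
  rfl

include hs hmin in
theorem isAdm_refineσ (j : Over i) : Pair.admBlowup (refineσ P i s.hom j) := by
  obtain ⟨-, hp, hi⟩ := hs
  haveI := hp
  refine ⟨rfl, inferInstanceAs (IsProper ((refineOpen P i s.hom j).ι.imageι ≫ pullback.snd _ _)), ?_⟩
  show IsIso (((refineOpen P i s.hom j).ι.imageι ≫ pullback.snd s.hom (P.map j.hom).hom) ∣_ _)
  rw [morphismRestrict_comp]
  haveI h1 : IsIso (pullback.fst (P.map j.hom).hom s.hom ∣_ ModPair.interior (P.obj j.left).mod) :=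
    haveI := hi
    S18738.isIso_pullback_fst_restrict _ _ _ _ (S18738.interior_le_of_ambient (P.map j.hom).cond)
  haveI : IsIso (pullback.snd s.hom (P.map j.hom).hom ∣_ ModPair.interior (P.obj j.left).mod) := by
    rw [← pullbackSymmetry_hom_comp_fst s.hom (P.map j.hom).hom, morphismRestrict_comp]
    infer_instance
  haveI : IsIso ((refineOpen P i s.hom j).ι.imageι ∣_
      (pullback.snd s.hom (P.map j.hom).hom ⁻¹ᵁ ModPair.interior (P.obj j.left).mod)) :=
    isIso_imageι_restrict (refineOpen P i s.hom j)
  infer_instance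

include hmin in
theorem affine_refineSys (ha : ∀ (i j : I) (t : i ⟶ j), IsAffineHom (P.map t).hom) {j k : Over i}
    (f : j ⟶ k) : IsAffineHom ((refineSys P i s.hom hmin).map f).hom := by
  let D := P ⋙ Pair.forget
  haveI : ∀ (i j : I) (t : i ⟶ j), IsAffineHom (D.map t) := ha
  haveI : IsAffineHom (refinePb P i s.hom f) := isAffineHom_pbDiagram_map D i s.hom j k f
  haveI : IsAffineHom (refineHom P i s.hom hmin f ≫ (refineOpen P i s.hom k).ι.imageι) := by
    rw [refineHom_ι]; infer_instance
  exact MorphismProperty.of_postcomp @IsAffineHom (refineHom P i s.hom hmin f)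
    (refineOpen P i s.hom k).ι.imageι
    (show IsSeparated (refineOpen P i s.hom k).ι.imageι from inferInstance) ‹_›

include hs hmin in
theorem dominant_refineSys (ha : ∀ (i j : I) (t : i ⟶ j), IsAffineHom (P.map t).hom)
    (hd : ∀ (i j : I) (t : i ⟶ j), IsSchemeTheoreticallyDominant (P.map t).hom) {j k : Over i}
    (f : j ⟶ k) : IsSchemeTheoreticallyDominant ((refineSys P i s.hom hmin).map f).hom := by
  let g := ((refineSys P i s.hom hmin).map f).hom
  haveI : IsAffineHom g := affine_refineSys P i s hmin ha f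
  haveI := ha _ _ f.left
  haveI := hd _ _ f.left
  let U := ModPair.interior (P.obj k.left).mod
  obtain ⟨-, -, hik⟩ := isAdm_refineσ P i s hs hmin k
  obtain ⟨-, -, hij⟩ := isAdm_refineσ P i s hs hmin j
  have he := congrArg Pair.Hom.hom (refineSys_σ P i s.hom hmin f)
  simp only [pair_hom_comp] at he
  have hVj : (P.map f.left).hom ⁻¹ᵁ U = ModPair.interior (P.obj j.left).mod := by
    rw [preimage_interior, ← hmin]
  haveI : IsIso ((refineσ P i s.hom j).hom ∣_ ((P.map f.left).hom ⁻¹ᵁ U)) := by rw [hVj]; exact hij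
  haveI : IsSchemeTheoreticallyDominant ((P.map f.left).hom ∣_ U) :=
    IsSchemeTheoreticallyDominant.of_isPullback (isPullback_morphismRestrict _ U).flip
  haveI hd1 : IsSchemeTheoreticallyDominant ((g ≫ (refineσ P i s.hom k).hom) ∣_ U) := by
    rw [he, morphismRestrict_comp]; infer_instance
  let V := (refineσ P i s.hom k).hom ⁻¹ᵁ U
  haveI hd2 : IsSchemeTheoreticallyDominant (g ∣_ V) := by
    haveI := hik
    rw [morphismRestrict_comp] at hd1
    have e : g ∣_ V = (g ∣_ V ≫ (refineσ P i s.hom k).hom ∣_ U) ≫ inv ((refineσ P i s.hom k).hom ∣_ U) := by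
      simp
    rw [e]
    infer_instance
  have hV : V = ModPair.interior (refineObj P i s.hom k).mod := preimage_interior _ _
  haveI : IsSchemeTheoreticallyDominant V.ι := by
    rw [hV]; exact dominant_interior (refineObj P i s.hom k).isEffCartier
  refine ⟨le_bot_iff.1 ?_⟩
  refine (Scheme.Hom.le_ker_comp (g ⁻¹ᵁ V).ι g).trans (le_of_eq ?_)
  rw [← morphismRestrict_ι, Scheme.Hom.ker_comp, (g ∣_ V).ker_eq_bot, Scheme.IdealSheafData.map_bot,
    V.ι.ker_eq_bot]

end proj

section refineLimit

variable {I : Type u} [Category.{u} I] [IsCofiltered I] {P : I ⥤ Pair.{u}} {c : Cone P} (hg : IsGood P c)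
  (i : I) {W : Pair.{u}} (s : W ⟶ P.obj i) (hs : Pair.admBlowup s)

include hg hs in
/-- The base change of a system along an admissible blow-up of a stage. -/
theorem exists_refine :
    ∃ (d : Cone (refineSys P i s.hom hg.minimal)) (σ : d.pt ⟶ c.pt) (w : d.pt ⟶ W),
      IsGood (refineSys P i s.hom hg.minimal) d ∧ Pair.admBlowup σ ∧
        (∀ j, d.π.app j ≫ refineσ P i s.hom j = σ ≫ c.π.app j.left) ∧
        (∀ j, d.π.app j ≫ refineW P i s hs hg.minimal j = w) ∧ w ≫ s = σ ≫ c.π.app i := by
  obtain ⟨hc⟩ := hg.isLimit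
  let D := P ⋙ Pair.forget
  haveI : ∀ (i j : I) (t : i ⟶ j), IsAffineHom (D.map t) := hg.affine
  haveI : IsProper s.hom := hs.2.1
  haveI := isAffineHom_interior c.pt.isEffCartier
  let p₂ := pullback.snd s.hom (c.π.app i).hom
  let U := p₂ ⁻¹ᵁ ModPair.interior c.pt.mod
  haveI : IsAffineHom U.ι :=
    MorphismProperty.of_isPullback (P := @IsAffineHom) (isPullback_morphismRestrict p₂ _).flip.flip inferInstance
  let pt : Pair.{u} := ⟨U.ι.image, c.pt.mod.comap (U.ι.imageι ≫ p₂),
    by
      refine isEff_comap_of_dense c.pt.isEffCartier _ ?_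
      rw [Scheme.Hom.comp_preimage]
      exact dense_image U⟩
  let σ : pt ⟶ c.pt := ⟨U.ι.imageι ≫ p₂, le_rfl⟩
  have hint : ModPair.interior pt.mod = U.ι.imageι ⁻¹ᵁ U :=
    (preimage_interior (U.ι.imageι ≫ p₂) _).symm
  let p : ∀ j : Over i, pullback s.hom (c.π.app i).hom ⟶ pullback s.hom (P.map j.hom).hom :=
    fun j => (pbCone D (Pair.forget.mapCone c) i s.hom).π.app j
  have hp₁ : ∀ j, p j ≫ pullback.fst _ _ = pullback.fst _ _ := fun j =>
    (pullback.lift_fst _ _ _).trans (Category.comp_id _)
  have hp₂ : ∀ j, p j ≫ pullback.snd _ _ = p₂ ≫ (c.π.app j.left).hom := fun j => pullback.lift_snd _ _ _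
  have hpU : ∀ j, p j ⁻¹ᵁ refineOpen P i s.hom j = U := fun j => by
    simp only [refineOpen]
    rw [← Scheme.Hom.comp_preimage, hp₂, Scheme.Hom.comp_preimage, preimage_interior, ← hg.minimal']
  have hπ : ∀ j, ∃ g : pt.total ⟶ (refineObj P i s.hom j).total,
      g ≫ (refineOpen P i s.hom j).ι.imageι = U.ι.imageι ≫ p j := fun j => by
    haveI := dominant_interior pt.isEffCartier
    refine exists_lift_image _ _ (ModPair.interior pt.mod) ?_
    rw [hint, Scheme.Hom.comp_preimage, hpU]
  choose g hg' using hπ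
  have hmod : ∀ j, pt.mod = (refineObj P i s.hom j).mod.comap (g j) := fun j => by
    show c.pt.mod.comap _ =
      ((P.obj j.left).mod.comap ((refineOpen P i s.hom j).ι.imageι ≫ pullback.snd _ _)).comap (g j)
    rw [← Scheme.IdealSheafData.comap_comp, reassoc_of% hg', hp₂, hg.minimal' j.left,
      ← Scheme.IdealSheafData.comap_comp, Category.assoc]
  let d : Cone (refineSys P i s.hom hg.minimal) :=
    { pt := pt
      π :=
      { app := fun j => ⟨g j, (hmod j).le⟩
        naturality := fun j k f => Pair.Hom.ext <| by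
          show 𝟙 _ ≫ g k = g j ≫ refineHom P i s.hom hg.minimal f
          rw [Category.id_comp, ← cancel_mono (refineOpen P i s.hom k).ι.imageι, Category.assoc,
            refineHom_ι, hg' k, reassoc_of% hg' j]
          congr 1
          exact ((pbCone D (Pair.forget.mapCone c) i s.hom).w f).symm } }
  let w : pt ⟶ W := ⟨U.ι.imageι ≫ pullback.fst _ _, by
    show c.pt.mod.comap _ ≤ _
    rw [(hs.1 : W.mod = _), ← Scheme.IdealSheafData.comap_comp, Category.assoc, pullback.condition,
      hg.minimal' i, ← Scheme.IdealSheafData.comap_comp, Category.assoc]⟩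
  have hσad : Pair.admBlowup σ := by
    refine ⟨rfl, inferInstanceAs (IsProper (U.ι.imageι ≫ p₂)), ?_⟩
    show IsIso ((U.ι.imageι ≫ p₂) ∣_ ModPair.interior c.pt.mod)
    rw [morphismRestrict_comp]
    haveI h1 : IsIso (pullback.fst (c.π.app i).hom s.hom ∣_ ModPair.interior c.pt.mod) :=
      haveI := hs.2.2
      S18738.isIso_pullback_fst_restrict _ _ _ _ (S18738.interior_le_of_ambient (c.π.app i).cond)
    haveI : IsIso (p₂ ∣_ ModPair.interior c.pt.mod) := by
      show IsIso (pullback.snd _ _ ∣_ _)
      rw [← pullbackSymmetry_hom_comp_fst s.hom (c.π.app i).hom, morphismRestrict_comp]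
      infer_instance
    haveI : IsIso (U.ι.imageι ∣_ (p₂ ⁻¹ᵁ ModPair.interior c.pt.mod)) := isIso_imageι_restrict U
    infer_instance
  have hTmin : ∀ (j k : Over i) (f : j ⟶ k), ((refineSys P i s.hom hg.minimal).obj j).mod =
      ((refineSys P i s.hom hg.minimal).obj k).mod.comap ((refineSys P i s.hom hg.minimal).map f).hom :=
    fun j k f => refineHom_mod P i s.hom hg.minimal f
  have haff : ∀ (j k : Over i) (f : j ⟶ k), IsAffineHom ((refineSys P i s.hom hg.minimal).map f).hom :=
    fun j k f => affine_refineSys P i s hg.minimal hg.affine f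
  have hcpt : ∀ j : Over i, CompactSpace ((refineSys P i s.hom hg.minimal).obj j).total ∧
      QuasiSeparatedSpace ((refineSys P i s.hom hg.minimal).obj j).total := fun j => by
    haveI := hg.compact j.left
    haveI := hg.qs j.left
    haveI : IsProper (refineσ P i s.hom j).hom := (isAdm_refineσ P i s hs hg.minimal j).2.1
    haveI : CompactSpace (refineObj P i s.hom j).total :=
      QuasiCompact.compactSpace_of_compactSpace (refineσ P i s.hom j).hom
    exact ⟨this, quasiSeparatedSpace_of_quasiSeparated (refineσ P i s.hom j).hom⟩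
  -- the limit property
  let E := refineSys P i s.hom hg.minimal ⋙ Pair.forget
  haveI : ∀ (j k : Over i) (f : j ⟶ k), IsAffineHom (E.map f) := haff
  let hq := isLimitPbCone D i s.hom hc
  let K : (pullback s.hom (c.π.app i).hom).IdealSheafData :=
    ⨆ j : Over i, (refineOpen P i s.hom j).ι.ker.comap (p j)
  have hLfac : ∀ j : Over i, ∃ l : K.subscheme ⟶ (refineObj P i s.hom j).total,
      l ≫ (refineOpen P i s.hom j).ι.imageι = K.subschemeι ≫ p j := fun j => by
    have hle : (refineOpen P i s.hom j).ι.imageι.ker ≤ (K.subschemeι ≫ p j).ker := by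
      rw [Scheme.IdealSheafData.ker_subschemeι, Scheme.Hom.ker_comp, K.ker_subschemeι,
        Scheme.IdealSheafData.le_map_iff_comap_le]
      exact le_iSup (fun j : Over i => (refineOpen P i s.hom j).ι.ker.comap (p j)) j
    exact ⟨IsClosedImmersion.lift _ _ hle, IsClosedImmersion.lift_fac _ _ _⟩
  choose l hl using hLfac
  let dL : Cone E :=
    { pt := K.subscheme
      π :=
      { app := l
        naturality := fun j k f => by
          show 𝟙 _ ≫ l k = l j ≫ refineHom P i s.hom hg.minimal f
          rw [Category.id_comp, ← cancel_mono (refineOpen P i s.hom k).ι.imageι, Category.assoc,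
            refineHom_ι, hl k, reassoc_of% hl j]
          congr 1
          exact ((pbCone D (Pair.forget.mapCone c) i s.hom).w f).symm } }
  let pr : Cone E → Cone (pbDiagram D i s.hom) := fun T =>
    { pt := T.pt
      π :=
      { app := fun j => T.π.app j ≫ (refineOpen P i s.hom j).ι.imageι
        naturality := fun j k f => by
          show 𝟙 _ ≫ _ = (T.π.app j ≫ _) ≫ _
          rw [Category.id_comp, Category.assoc, ← T.w f, Category.assoc]
          congr 1
          exact refineHom_ι P i s.hom hg.minimal f } }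
  have hqK : ∀ T : Cone E, K ≤ (hq.lift (pr T)).ker := fun T => iSup_le fun j => by
    rw [← Scheme.IdealSheafData.le_map_iff_comap_le, ← Scheme.Hom.ker_comp]
    rw [show hq.lift (pr T) ≫ p j = _ from hq.fac (pr T) j]
    exact (Scheme.IdealSheafData.ker_subschemeι _).ge.trans (Scheme.Hom.le_ker_comp _ _)
  have hdL : IsLimit dL :=
    { lift := fun T => IsClosedImmersion.lift K.subschemeι (hq.lift (pr T))
        (by rw [K.ker_subschemeι]; exact hqK T)
      fac := fun T j => by
        rw [← cancel_mono (refineOpen P i s.hom j).ι.imageι, Category.assoc]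
        erw [hl j, IsClosedImmersion.lift_fac_assoc]
        exact hq.fac (pr T) j
      uniq := fun T m hm => by
        rw [← cancel_mono K.subschemeι, IsClosedImmersion.lift_fac]
        refine hq.uniq (pr T) _ fun j => ?_
        show (m ≫ K.subschemeι) ≫ p j = T.π.app j ≫ _
        rw [Category.assoc, ← hl j, ← hm j, Category.assoc] }
  haveI : IsAffineHom (c.π.app i).hom := isAffineHom_π_app D (Pair.forget.mapCone c) hc i
  let j₀ : Over i := Over.mk (𝟙 i)
  have hKint : ModPair.interior ((refineObj P i s.hom j₀).mod.comap (l j₀)) = K.subschemeι ⁻¹ᵁ U := by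
    rw [← preimage_interior, interior_refineObj, ← Scheme.Hom.comp_preimage, hl, Scheme.Hom.comp_preimage,
      hpU]
  haveI := dominant_interior (isEff_comap_limit hdL (fun j => (refineObj P i s.hom j).mod)
    (fun j => (refineObj P i s.hom j).isEffCartier) hTmin j₀)
  obtain ⟨r, hr⟩ := exists_lift_image K.subschemeι U
    (ModPair.interior ((refineObj P i s.hom j₀).mod.comap (l j₀))) hKint.le
  let dS := Pair.forget.mapCone d
  have hr' : ∀ j, r ≫ g j = l j := fun j => by
    rw [← cancel_mono (refineOpen P i s.hom j).ι.imageι, Category.assoc, hg', reassoc_of% hr, hl]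
  have hd : IsLimit dS :=
    IsLimit.ofIsoLimit hdL (Cones.ext
      { hom := r
        inv := hdL.lift dS
        hom_inv_id := hdL.hom_ext fun j => by
          rw [Category.assoc, hdL.fac, Category.id_comp]
          exact hr' j
        inv_hom_id := by
          show hdL.lift dS ≫ r = 𝟙 _
          rw [← cancel_mono U.ι.imageι, Category.assoc, hr, Category.id_comp]
          refine hq.hom_ext fun j => ?_
          show (hdL.lift dS ≫ K.subschemeι) ≫ p j = U.ι.imageι ≫ p j
          rw [Category.assoc, ← hl j, ← hg' j, ← Category.assoc]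
          congr 1
          exact hdL.fac dS j }
      (fun j => (hr' j).symm))
  refine ⟨d, σ, w, ⟨haff, fun j => (hcpt j).1, fun j => (hcpt j).2, hTmin, hmod, ⟨hd⟩⟩, hσad,
    fun j => Pair.Hom.ext ?_, fun j => Pair.Hom.ext ?_, Pair.Hom.ext ?_⟩
  · show g j ≫ (refineOpen P i s.hom j).ι.imageι ≫ pullback.snd _ _ = (U.ι.imageι ≫ p₂) ≫ _
    rw [reassoc_of% hg', hp₂, Category.assoc]
  · show g j ≫ (refineOpen P i s.hom j).ι.imageι ≫ pullback.fst _ _ = U.ι.imageι ≫ pullback.fst _ _
    rw [reassoc_of% hg', hp₁]
  · show (U.ι.imageι ≫ pullback.fst _ _) ≫ s.hom = (U.ι.imageι ≫ p₂) ≫ _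
    rw [Category.assoc, pullback.condition, Category.assoc]

end refineLimit

end Groth.Agent.H26MPA
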