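import Groth.Agent.H26MPA.Basic
import Groth.Agent.H26ModPair.Basic
import Groth.Agent.H7Lim.Proper.StructureMap
import Groth.Agent.H7Lim.DescendIso
import Groth.Agent.H7Lim.FPDescent.Exists

/-!
# Finitely presented models of proper morphisms that are isomorphisms over an open subscheme
-/

set_option autoImplicit false
set_option backward.isDefEq.respectTransparency false
set_option backward.defeqAttrib.useBackward true

universe u

open CategoryTheory CategoryTheory.Limits AlgebraicGeometry TopologicalSpace MorphismProperty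
open Groth.Agent.H7Lim

namespace Groth.Agent.H26MPA

/-- The system of finite type ideals of a closed subscheme, over the base. -/
noncomputable def isLimitMapFtCone {X' Y : Scheme.{u}} (f' : X' ⟶ Y) (J : X'.IdealSheafData)
    [CompactSpace X'] [QuasiSeparatedSpace X'] :
    IsLimit ((Over.map f').mapCone (ftConeOver J)) where
  lift s := Over.homMk ((isLimitFtCone J).lift
      { pt := s.pt.left
        π :=
          { app := fun K ↦ (s.π.app K).left
            naturality := fun K L a ↦ by
              have := congr(($(s.w a)).left)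
              dsimp [ftSystemOver, ftSystem] at this ⊢
              rw [Category.id_comp]; exact this.symm } }) (by
        let J₀ : (FTIdeal J)ᵒᵖ := Classical.arbitrary _
        show _ ≫ J.subschemeι ≫ f' = _
        rw [← show (s.π.app J₀).left ≫ ((ftSystemOver J ⋙ Over.map f').obj J₀).hom = s.pt.hom from
          Over.w (s.π.app J₀)]
        have h1 : J.subschemeι = (ftCone J).π.app J₀ ≫ J₀.unop.1.subschemeι :=
          (Scheme.IdealSheafData.inclusion_subschemeι J₀.unop.2.1).symm
        rw [h1, Category.assoc, (isLimitFtCone J).fac_assoc]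
        rfl)
  fac s K := Over.OverMorphism.ext ((isLimitFtCone J).fac _ K)
  uniq s m hm := Over.OverMorphism.ext ((isLimitFtCone J).hom_ext fun K ↦ by
      dsimp
      rw [(isLimitFtCone J).fac]
      exact congr(($(hm K)).left))

/-- A proper morphism that is an isomorphism over a quasi-compact open has a finitely presented proper
model with the same property. -/
theorem exists_proper_model {X Y : Scheme.{u}} [CompactSpace Y] [QuasiSeparatedSpace Y] (f : X ⟶ Y)
    [IsProper f] (U : Y.Opens) (hU : IsCompact (U : Set Y)) (hiso : IsIso (f ∣_ U)) :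
    ∃ (X' : Scheme.{u}) (f' : X' ⟶ Y) (j : X ⟶ X'), LocallyOfFinitePresentation f' ∧ IsProper f' ∧
      IsClosedImmersion j ∧ j ≫ f' = f ∧ IsIso (f' ∣_ U) := by
  haveI : CompactSpace X := QuasiCompact.compactSpace_of_compactSpace f
  haveI : QuasiSeparatedSpace X := quasiSeparatedSpace_of_quasiSeparated f
  obtain ⟨X', f', j, hlfp, hqc, hqs, hX'c, hX'q, hj, hjf, -⟩ := Approx.exists_isClosedImmersion_fp f
  obtain ⟨hc'⟩ := Approx.nonempty_isLimit_forget (isLimitMapFtCone f' j.ker)
  let E := (ftSystemOver j.ker ⋙ Over.map f') ⋙ Over.forget Y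
  haveI hE : ∀ (a b : (FTIdeal j.ker)ᵒᵖ) (g : a ⟶ b), IsClosedImmersion (E.map g) := fun a b g =>
    isClosedImmersion_ftSystem_map j.ker g
  haveI : ∀ (a b : (FTIdeal j.ker)ᵒᵖ) (g : a ⟶ b), IsAffineHom (E.map g) := fun a b g => by
    haveI := hE a b g; infer_instance
  haveI : ∀ a, CompactSpace (E.obj a) := fun a =>
    QuasiCompact.compactSpace_of_compactSpace a.unop.1.subschemeι
  haveI : ∀ a, QuasiSeparatedSpace (E.obj a) := fun a =>
    quasiSeparatedSpace_of_quasiSeparated a.unop.1.subschemeι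
  let t : ∀ a, E.obj a ⟶ Y := fun a => a.unop.1.subschemeι ≫ f'
  haveI : ∀ a, LocallyOfFiniteType (t a) := fun a =>
    inferInstanceAs (LocallyOfFiniteType (a.unop.1.subschemeι ≫ f'))
  let a₀ : (FTIdeal j.ker)ᵒᵖ := Classical.arbitrary _
  haveI : IsProper (((Over.forget Y).mapCone
      ((Over.map f').mapCone (ftConeOver j.ker))).π.app a₀ ≫ t a₀) := by
    show IsProper (Scheme.IdealSheafData.inclusion a₀.unop.2.1 ≫ a₀.unop.1.subschemeι ≫ f')
    rw [Scheme.IdealSheafData.inclusion_subschemeι_assoc,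
      ← MorphismProperty.cancel_left_of_respectsIso @IsProper j.toImage]
    rw [show j.toImage ≫ j.ker.subschemeι ≫ f' = f from (j.toImage_imageι_assoc f').trans hjf]
    infer_instance
  obtain ⟨a₁, ha₁⟩ := exists_isProper_structureMap
    (c := (Over.forget Y).mapCone ((Over.map f').mapCone (ftConeOver j.ker))) t
    (fun {a b} φ => Over.w ((ftSystemOver j.ker ⋙ Over.map f').map φ)) hc' a₀
  obtain ⟨K₅, hK₅⟩ := exists_comap_ι_eq j.ker (f' ⁻¹ᵁ U) (QuasiCompact.isCompact_preimage _ U.2 hU)
    (fun V hV => ker_fg_over j f' _ (by rw [hjf]; exact hiso) V hV)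
  obtain ⟨K, hK₁, hK₂⟩ := directed_of (fun a b : FTIdeal j.ker => a ≤ b) a₁.unop K₅
  haveI : LocallyOfFinitePresentation K.1.subschemeι :=
    locallyOfFinitePresentation_of_ker_fg _ fun V => by
      rw [Scheme.IdealSheafData.ker_subschemeι]; exact K.2.2 V
  haveI : IsClosedImmersion (Scheme.IdealSheafData.inclusion K.2.1 ≫ K.1.subschemeι) := by
    rw [Scheme.IdealSheafData.inclusion_subschemeι]; infer_instance
  haveI := IsClosedImmersion.of_comp_isClosedImmersion (Scheme.IdealSheafData.inclusion K.2.1)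
    K.1.subschemeι
  haveI hi := isIso_inclusion_restrict K.2.1 (f' ⁻¹ᵁ U) (hK₅ K hK₂)
  have e : (j.toImage ≫ Scheme.IdealSheafData.inclusion K.2.1) ≫ K.1.subschemeι ≫ f' = f := by
    rw [Category.assoc, Scheme.IdealSheafData.inclusion_subschemeι_assoc]
    exact (j.toImage_imageι_assoc f').trans hjf
  refine ⟨K.1.subscheme, K.1.subschemeι ≫ f', j.toImage ≫ Scheme.IdealSheafData.inclusion K.2.1,
    inferInstance, ha₁ (Opposite.op K) (homOfLE hK₁).op, inferInstance, e, ?_⟩
  rw [← e, morphismRestrict_comp (j.toImage ≫ _) (K.1.subschemeι ≫ f'),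
    morphismRestrict_comp j.toImage] at hiso
  haveI : IsIso (Scheme.IdealSheafData.inclusion K.2.1 ∣_ ((K.1.subschemeι ≫ f') ⁻¹ᵁ U)) := hi
  haveI : IsIso (j.toImage ∣_ (Scheme.IdealSheafData.inclusion K.2.1 ⁻¹ᵁ
      ((K.1.subschemeι ≫ f') ⁻¹ᵁ U))) := inferInstance
  exact IsIso.of_isIso_comp_left (j.toImage ∣_ _ ≫ Scheme.IdealSheafData.inclusion K.2.1 ∣_ _) _

section descend

variable {I : Type u} [SmallCategory I] [IsCofiltered I] {D : I ⥤ Scheme.{u}} {c : Cone D}
  [∀ (i j : I) (f : i ⟶ j), IsAffineHom (D.map f)]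

/-- Being an isomorphism over a quasi-compact open descends to a stage. -/
theorem exists_isIso_restrict_stage (hc : IsLimit c) [∀ i, QuasiSeparatedSpace (D.obj i)] (i : I)
    {P : Scheme.{u}} (p : P ⟶ D.obj i) [LocallyOfFinitePresentation p] [QuasiCompact p]
    [QuasiSeparated p] (V : (D.obj i).Opens) (hV : IsCompact (V : Set (D.obj i)))
    (h : IsIso (pullback.snd p (c.π.app i) ∣_ (c.π.app i ⁻¹ᵁ V))) :
    ∃ (k : I) (φ : k ⟶ i), IsIso (pullback.snd p (D.map φ) ∣_ (D.map φ ⁻¹ᵁ V)) := by
  let e₀ : Over i := Over.mk (𝟙 i)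
  let ι₀ : (opensDiagram D i V).obj e₀ ⟶ D.obj i := (D.map (𝟙 i) ⁻¹ᵁ V).ι ≫ D.map (𝟙 i)
  have : CompactSpace ↥((opensDiagram D i V).obj e₀) :=
    isCompact_iff_compactSpace.mp (show IsCompact ((D.map (𝟙 i) ⁻¹ᵁ V : (D.obj i).Opens) :
      Set (D.obj i)) from QuasiCompact.isCompact_preimage _ V.2 hV)
  have : QuasiSeparatedSpace ↥((opensDiagram D i V).obj e₀) :=
    quasiSeparatedSpace_of_quasiSeparated (D.map (𝟙 i) ⁻¹ᵁ V).ι
  have : CompactSpace ↥(pullback p ι₀) := QuasiCompact.compactSpace_of_compactSpace (pullback.snd p ι₀)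
  have : QuasiSeparatedSpace ↥(pullback p ι₀) :=
    quasiSeparatedSpace_of_quasiSeparated (pullback.snd p ι₀)
  obtain ⟨k, χ, hk⟩ := descends_isIso (Over i) (opensDiagram D i V) _
    (isLimitOpensCone D c hc i V) e₀ (pullback.snd p ι₀)
    (MorphismProperty.pullback_snd _ _ ‹_›) <| by
      refine (prop_iff_of_isPullback
        ((IsPullback.of_hasPullback (pullback.snd p ι₀) _).paste_horiz
          (IsPullback.of_hasPullback p ι₀))).mpr ?_ |> fun h ↦ h
      refine prop_snd_of_fac (b := (c.π.app i ⁻¹ᵁ V).ι ≫ c.π.app i) (𝟙 _)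
        (by simp [ι₀, opensCone, e₀]) ?_
      exact (prop_iff_of_isPullback (P := isomorphisms Scheme.{u})
        ((isPullback_morphismRestrict _ _).flip.paste_horiz
          (IsPullback.of_hasPullback p (c.π.app i)))).mp h
  refine ⟨k.left, k.hom, ?_⟩
  refine (prop_iff_of_isPullback (P := isomorphisms Scheme.{u})
    ((isPullback_morphismRestrict _ _).flip.paste_horiz
      (IsPullback.of_hasPullback p (D.map k.hom)))).mpr ?_
  refine prop_snd_of_fac (b := (opensDiagram D i V).map χ ≫ ι₀) (𝟙 _) ?_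
    ((prop_iff_of_isPullback
      ((IsPullback.of_hasPullback (pullback.snd p ι₀) _).paste_horiz
        (IsPullback.of_hasPullback p ι₀))).mp hk)
  have : χ.left = k.hom := by simpa [e₀] using Over.w χ
  simp [ι₀, opensDiagram, this, e₀]

end descend

end Groth.Agent.H26MPA
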