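import Groth.Agent.H26MPA.Colim
import Groth.Agent.H26Lim.HomDominant
import Groth.Agent.H7Lim.Approx.LimitExists
import Groth.Agent.H26ModPair.Pullback
import Groth.Agent.S18746

/-!
# Morphisms out of limits of modulus pairs in the localization at admissible blow-ups
-/

set_option autoImplicit false
set_option backward.isDefEq.respectTransparency false
set_option backward.defeqAttrib.useBackward true

universe u

open CategoryTheory CategoryTheory.Limits AlgebraicGeometry TopologicalSpace ModPair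
open Groth.Agent.H7Lim Groth.Agent.H26ModPair

namespace Groth.Agent.H26MPA

/-- A limit cone in modulus pairs over a base, with affine minimal transitions, is a limit on schemes. -/
theorem isGood_of_isLimit {S : Pair.{u}} {I : Type u} [SmallCategory I] [IsCofiltered I] (D : I ⥤ Over S)
    (c : Cone D) (hc : IsLimit c)
    (haff : ∀ (i j : I) (t : i ⟶ j), IsAffineHom (D.map t).left.hom)
    (hmin : ∀ (i j : I) (t : i ⟶ j), ModPair.IsMinimal (D.obj i).left.mod (D.obj j).left.mod (D.map t).left.hom)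
    (hcpt : ∀ i, CompactSpace (D.obj i).left.total) (hqs : ∀ i, QuasiSeparatedSpace (D.obj i).left.total) :
    IsGood (D ⋙ Over.forget S) ((Over.forget S).mapCone c) := by
  let E := D ⋙ Over.forget S ⋙ Pair.forget
  haveI : ∀ (i j : I) (t : i ⟶ j), IsAffineHom (E.map t) := haff
  obtain ⟨cS, hcS, -⟩ := Approx.exists_isLimit_affine E
  haveI : Nonempty I := IsCofiltered.nonempty
  let i₀ : I := Classical.arbitrary I
  let J : ∀ i, (E.obj i).IdealSheafData := fun i => (D.obj i).left.mod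
  have hJc : ∀ i j, (J i).comap (cS.π.app i) = (J j).comap (cS.π.app j) := by
    have key : ∀ {i j : I} (t : i ⟶ j), (J i).comap (cS.π.app i) = (J j).comap (cS.π.app j) := by
      intro i j t
      rw [← cS.w t, Scheme.IdealSheafData.comap_comp]
      exact congrArg (Scheme.IdealSheafData.comap · (cS.π.app i)) (hmin i j t)
    exact fun i j => (key (IsCofiltered.minToLeft i j)).symm.trans (key (IsCofiltered.minToRight i j))
  let L : Pair.{u} := ⟨cS.pt, (J i₀).comap (cS.π.app i₀),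
    isEff_comap_limit hcS J (fun i => (D.obj i).left.isEffCartier) hmin i₀⟩
  let π : ∀ i, L ⟶ (D.obj i).left := fun i => ⟨cS.π.app i, (hJc i₀ i).le⟩
  have hπ : ∀ {i j : I} (t : i ⟶ j), π i ≫ (D.map t).left = π j := fun t => Pair.Hom.ext (cS.w t)
  have hstr : ∀ i j, π i ≫ (D.obj i).hom = π j ≫ (D.obj j).hom := by
    have key : ∀ {i j : I} (t : i ⟶ j), π i ≫ (D.obj i).hom = π j ≫ (D.obj j).hom := fun {i j} t => by
      rw [← Over.w (D.map t), ← Category.assoc, hπ t]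
    exact fun i j => (key (IsCofiltered.minToLeft i j)).symm.trans (key (IsCofiltered.minToRight i j))
  let cL : Cone D :=
    { pt := Over.mk (π i₀ ≫ (D.obj i₀).hom)
      π :=
      { app := fun i => Over.homMk (π i) (hstr i i₀)
        naturality := fun i j t => by
          apply Over.OverMorphism.ext
          show 𝟙 _ ≫ π j = π i ≫ (D.map t).left
          rw [Category.id_comp, hπ t] } }
  let pr : Cone D → Cone E := fun T =>
    { pt := T.pt.left.total
      π :=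
      { app := fun i => (T.π.app i).left.hom
        naturality := fun i j t => by
          show 𝟙 _ ≫ _ = _ ≫ _
          rw [Category.id_comp]
          exact (congrArg (fun m => m.left.hom) (T.w t)).symm } }
  let lift : ∀ T : Cone D, T.pt.left ⟶ L := fun T => ⟨hcS.lift (pr T), by
    show T.pt.left.mod ≤ ((J i₀).comap (cS.π.app i₀)).comap _
    rw [← Scheme.IdealSheafData.comap_comp, hcS.fac]
    exact (T.π.app i₀).left.cond⟩
  have hlift : ∀ T i, lift T ≫ π i = (T.π.app i).left := fun T i => Pair.Hom.ext (hcS.fac (pr T) i)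
  let hL : IsLimit cL :=
    { lift := fun T => Over.homMk (lift T) (by
        show lift T ≫ π i₀ ≫ (D.obj i₀).hom = _
        rw [← Category.assoc, hlift]
        exact Over.w (T.π.app i₀))
      fac := fun T i => Over.OverMorphism.ext (hlift T i)
      uniq := fun T m hm => Over.OverMorphism.ext (Pair.Hom.ext (hcS.uniq (pr T) m.left.hom fun i =>
        congrArg (fun m => m.left.hom) (hm i))) }
  let φ := hL.conePointUniqueUpToIso hc
  have hφ : ∀ i, φ.inv.left ≫ π i = (c.π.app i).left := fun i =>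
    congrArg CommaMorphism.left (hL.conePointUniqueUpToIso_inv_comp hc i)
  refine ⟨haff, hcpt, hqs, hmin, fun i => le_antisymm (c.π.app i).left.cond ?_, ⟨?_⟩⟩
  · show (J i).comap (c.π.app i).left.hom ≤ _
    rw [← hφ i, pair_hom_comp, Scheme.IdealSheafData.comap_comp]
    show ((J i).comap (cS.π.app i)).comap _ ≤ _
    rw [← hJc i₀ i]
    refine (Scheme.IdealSheafData.comap_mono _ φ.hom.left.cond).trans (le_of_eq ?_)
    refine (Scheme.IdealSheafData.comap_comp _ _ _).symm.trans ?_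
    rw [show φ.inv.left.hom ≫ φ.hom.left.hom = 𝟙 _ from congrArg (fun m => m.left.hom) φ.inv_hom_id]
    exact Scheme.IdealSheafData.comap_id _
  · refine IsLimit.ofIsoLimit hcS (Cones.ext
      { hom := φ.hom.left.hom
        inv := φ.inv.left.hom
        hom_inv_id := congrArg (fun m => m.left.hom) φ.hom_inv_id
        inv_hom_id := congrArg (fun m => m.left.hom) φ.inv_hom_id } fun i => ?_)
    exact (congrArg (fun m => m.left.hom) (hL.conePointUniqueUpToIso_hom_comp hc i)).symm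

section factor

variable {I : Type u} [SmallCategory I] [IsCofiltered I] {P : I ⥤ Pair.{u}} {c : Cone P} (hg : IsGood P c)
  {S Y : Pair.{u}} (y : Y ⟶ S) [LocallyOfFiniteType y.hom] (t : ∀ i, P.obj i ⟶ S)
  (ht : ∀ {i j : I} (a : i ⟶ j), P.map a ≫ t j = t i)

include hg ht

/-- An ambient morphism out of the limit factors through a stage. -/
theorem exists_factor
    (h : (∀ (i j : I) (a : i ⟶ j), IsSchemeTheoreticallyDominant (P.map a).hom) ∨
      LocallyOfFinitePresentation y.hom)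
    (f : c.pt ⟶ Y) (hf : ∀ i, f ≫ y = c.π.app i ≫ t i) :
    ∃ (i : I) (fi : P.obj i ⟶ Y), fi ≫ y = t i ∧ c.π.app i ≫ fi = f := by
  obtain ⟨hc⟩ := hg.isLimit
  let E := P ⋙ Pair.forget
  haveI : ∀ (i j : I) (a : i ⟶ j), IsAffineHom (E.map a) := hg.affine
  haveI : ∀ i, CompactSpace (E.obj i) := hg.compact
  haveI : ∀ i, QuasiSeparatedSpace (E.obj i) := hg.qs
  let τ : E ⟶ (Functor.const I).obj S.total :=
    { app := fun i => (t i).hom
      naturality := fun i j a => by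
        simpa [E, pair_hom_comp, Pair.forget] using congrArg Pair.Hom.hom (ht a) }
  have hτ : (Pair.forget.mapCone c).π ≫ τ = (Functor.const _).map (f.hom ≫ y.hom) := by
    ext i
    exact (congrArg Pair.Hom.hom (hf i)).symm
  obtain ⟨i, g, hg₁, hg₂⟩ : ∃ (i : I) (g : E.obj i ⟶ Y.total),
      (c.π.app i).hom ≫ g = f.hom ∧ g ≫ y.hom = τ.app i := by
    rcases h with hd | hl
    · haveI : ∀ {i j : I} (a : i ⟶ j), IsSchemeTheoreticallyDominant (E.map a) := fun a => hd _ _ a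
      haveI : ∀ {i j : I} (a : i ⟶ j), IsAffineHom (E.map a) := fun a => hg.affine _ _ a
      exact H26Lim.exists_π_app_comp_eq_of_dominant E τ y.hom _ hc f.hom hτ
    · haveI := hl
      haveI : ∀ {i j : I} (a : i ⟶ j), IsAffineHom (E.map a) := fun a => hg.affine _ _ a
      exact Scheme.exists_π_app_comp_eq_of_locallyOfFinitePresentation E τ y.hom _ hc f.hom hτ
  obtain ⟨j, φ, hj⟩ := H26Lim.exists_comap_le hc (P.obj i).mod (Y.mod.comap g)
    (fun x => by
      obtain ⟨U, hxU, e, -, he⟩ := (P.obj i).isEffCartier x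
      exact ⟨U, hxU, ⟨{e}, by simp [he]; rfl⟩⟩)
    (by
      show (P.obj i).mod.comap (c.π.app i).hom ≤ (Y.mod.comap g).comap (c.π.app i).hom
      rw [← hg.minimal', ← Scheme.IdealSheafData.comap_comp, hg₁]
      exact f.cond)
  refine ⟨j, ⟨(P.map φ).hom ≫ g, ?_⟩, Pair.Hom.ext ?_, Pair.Hom.ext ?_⟩
  · show (P.obj j).mod ≤ _
    rw [Scheme.IdealSheafData.comap_comp, hg.minimal j i φ]
    exact hj
  · show ((P.map φ).hom ≫ g) ≫ y.hom = _
    rw [Category.assoc, hg₂]
    exact congrArg Pair.Hom.hom (ht φ)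
  · show (c.π.app j).hom ≫ (P.map φ).hom ≫ g = _
    rw [← Category.assoc, ← hg₁]
    exact congrArg (· ≫ g) (congrArg Pair.Hom.hom (c.w φ))

/-- Morphisms from a stage agreeing on the limit agree at a later stage. -/
theorem exists_eq_stage {i : I} (a b : P.obj i ⟶ Y) (ha : a ≫ y = t i) (hb : b ≫ y = t i)
    (hab : c.π.app i ≫ a = c.π.app i ≫ b) :
    ∃ (k : I) (φ : k ⟶ i), P.map φ ≫ a = P.map φ ≫ b := by
  obtain ⟨hc⟩ := hg.isLimit
  let E := P ⋙ Pair.forget
  haveI : ∀ {i j : I} (a : i ⟶ j), IsAffineHom (E.map a) := fun a => hg.affine _ _ a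
  haveI : ∀ i, CompactSpace (E.obj i) := hg.compact
  haveI : ∀ i, QuasiSeparatedSpace (E.obj i) := hg.qs
  let τ : E ⟶ (Functor.const I).obj S.total :=
    { app := fun i => (t i).hom
      naturality := fun i j a => by
        simpa [E, pair_hom_comp, Pair.forget] using congrArg Pair.Hom.hom (ht a) }
  obtain ⟨k, φ, hk⟩ := Scheme.exists_hom_comp_eq_comp_of_locallyOfFiniteType E τ y.hom
    (Pair.forget.mapCone c) hc (i := i) a.hom b.hom (congrArg Pair.Hom.hom ha).symm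
    (congrArg Pair.Hom.hom hb).symm (congrArg Pair.Hom.hom hab)
  exact ⟨k, φ, Pair.Hom.ext hk⟩

end factor

section descend

variable {I : Type u} [SmallCategory I] [IsCofiltered I] {P : I ⥤ Pair.{u}} {c : Cone P} (hg : IsGood P c)

include hg

/-- An admissible blow-up of the limit is dominated by the base change of one of a stage. -/
theorem exists_dominating {Z : Pair.{u}} (ρ : Z ⟶ c.pt) (hρ : Pair.admBlowup ρ) :
    ∃ (i : I) (W : Pair.{u}) (s : W ⟶ P.obj i) (hs : Pair.admBlowup s)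
      (d : Cone (refineSys P i s.hom hg.minimal)) (σ : d.pt ⟶ c.pt) (w : d.pt ⟶ W) (g : d.pt ⟶ Z),
      IsGood (refineSys P i s.hom hg.minimal) d ∧ Pair.admBlowup σ ∧
        (∀ j, d.π.app j ≫ refineσ P i s.hom j = σ ≫ c.π.app j.left) ∧
        (∀ j, d.π.app j ≫ refineW P i s hs hg.minimal j = w) ∧ g ≫ ρ = σ := by
  obtain ⟨hc⟩ := hg.isLimit
  let E := P ⋙ Pair.forget
  haveI : ∀ (i j : I) (a : i ⟶ j), IsAffineHom (E.map a) := hg.affine
  haveI : ∀ i, CompactSpace (E.obj i) := hg.compact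
  haveI : ∀ i, QuasiSeparatedSpace (E.obj i) := hg.qs
  obtain ⟨hρm, hρp, hρi⟩ := hρ
  obtain ⟨i, Yi, IYi, si, hYi, hadm, e, he⟩ := S18746.result E (Pair.forget.mapCone c) hc
    (fun i => (P.obj i).mod) (fun i => (P.obj i).isEffCartier) hg.minimal c.pt.mod hg.minimal'
    (Y := Z.total) ρ.hom ((show Z.mod = _ from hρm) ▸ Z.isEffCartier) ⟨rfl, hρp, hρi⟩
  let W : Pair.{u} := ⟨Yi, IYi, hYi⟩
  let s : W ⟶ P.obj i := ⟨si, le_of_eq hadm.1⟩
  obtain ⟨d, σ, w, hd, hσ, hdσ, hdw, hws⟩ := exists_refine hg i s hadm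
  let h : d.pt.total ⟶ pullback (c.π.app i).hom si :=
    pullback.lift σ.hom w.hom (congrArg Pair.Hom.hom hws).symm
  obtain ⟨k, hk⟩ := exists_lift_mprod (c.π.app i).hom si c.pt.mod IYi d.pt.isEffCartier h
    (by rw [ModPair.IsAmbient, pullback.lift_fst]; exact σ.cond)
    (by rw [ModPair.IsAmbient, pullback.lift_snd]; exact w.cond)
  have he' : e.inv ≫ ρ.hom = ModPair.mprodι (c.π.app i).hom si c.pt.mod IYi ≫ pullback.fst _ _ := by
    rw [Iso.inv_comp_eq]; exact he.symm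
  have hkρ : (k ≫ e.inv) ≫ ρ.hom = σ.hom := by
    rw [Category.assoc, he', ← Category.assoc, hk, pullback.lift_fst]
  let g : d.pt ⟶ Z := ⟨k ≫ e.inv, by
    show d.pt.mod ≤ _
    rw [(hρm : Z.mod = _), ← Scheme.IdealSheafData.comap_comp, hkρ]
    exact σ.cond⟩
  exact ⟨i, W, s, hadm, d, σ, w, g, hd, hσ, hdσ, hdw, Pair.Hom.ext hkρ⟩

end descend

section main

/-- The localization functor. -/
noncomputable abbrev Q := (ModPair.Pair.admBlowup.{u}).Q

variable {I : Type u} [SmallCategory I] [IsCofiltered I] {P : I ⥤ Pair.{u}} {c : Cone P} (hg : IsGood P c)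
  {S Y : Pair.{u}} (y : Y ⟶ S) [LocallyOfFiniteType y.hom] (t : ∀ i, P.obj i ⟶ S)
  (ht : ∀ {i j : I} (a : i ⟶ j), P.map a ≫ t j = t i) (x : c.pt ⟶ S) (hx : ∀ i, c.π.app i ≫ t i = x)

theorem isIso_Q {A B : Pair.{u}} (f : A ⟶ B) (hf : Pair.admBlowup f) : IsIso (Q.{u}.map f) :=
  Localization.inverts _ (ModPair.Pair.admBlowup.{u}) f hf

theorem adm_comp {A B C : Pair.{u}} {f : A ⟶ B} {g : B ⟶ C} (hf : Pair.admBlowup f)
    (hg : Pair.admBlowup g) : Pair.admBlowup (f ≫ g) :=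
  S18738.adm_comp hf hg

/-- A morphism over `S` in the localization is a fraction commuting over `S`. -/
theorem exists_fraction_over {X : Pair.{u}} (xS : X ⟶ S) (φ : Q.{u}.obj X ⟶ Q.{u}.obj Y)
    (h : φ ≫ Q.{u}.map y = Q.{u}.map xS) :
    ∃ (Z : Pair.{u}) (s : Z ⟶ X) (f : Z ⟶ Y), Pair.admBlowup s ∧ Q.{u}.map s ≫ φ = Q.{u}.map f ∧
      f ≫ y = s ≫ xS := by
  haveI := S18738.result.{u}
  obtain ⟨χ, hχ⟩ := Localization.exists_rightFraction Q.{u} ModPair.Pair.admBlowup.{u} φ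
  have hs : Q.{u}.map χ.s ≫ φ = Q.{u}.map χ.f := by
    rw [hχ]; exact χ.map_s_comp_map Q.{u} (Localization.inverts Q.{u} _)
  have h2 : Q.{u}.map (χ.f ≫ y) = Q.{u}.map (χ.s ≫ xS) := by
    rw [Q.{u}.map_comp, Q.{u}.map_comp, ← hs, Category.assoc, h]
  obtain ⟨Z, r, hr, hre⟩ := (MorphismProperty.map_eq_iff_precomp Q.{u} ModPair.Pair.admBlowup.{u} _ _).1 h2
  exact ⟨Z, r ≫ χ.s, r ≫ χ.f, adm_comp hr χ.hs,
    by rw [Q.{u}.map_comp, Q.{u}.map_comp, Category.assoc, hs], by rw [Category.assoc, Category.assoc, hre]⟩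

include hg ht hx in
theorem exists_factor_Q
    (h : (∀ (i j : I) (a : i ⟶ j), IsSchemeTheoreticallyDominant (P.map a).hom) ∨
      LocallyOfFinitePresentation y.hom)
    (φ : Q.{u}.obj c.pt ⟶ Q.{u}.obj Y) (hφ : φ ≫ Q.{u}.map y = Q.{u}.map x) :
    ∃ (i : I) (φi : Q.{u}.obj (P.obj i) ⟶ Q.{u}.obj Y),
      φi ≫ Q.{u}.map y = Q.{u}.map (t i) ∧ Q.{u}.map (c.π.app i) ≫ φi = φ := by
  obtain ⟨Z, ρ, f, hρ, hρφ, hfy⟩ := exists_fraction_over y x φ hφ
  obtain ⟨i, W, s, hs, d, σ, w, g, hd, hσ, hdσ, hdw, hgρ⟩ := exists_dominating hg ρ hρ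
  let T := refineSys P i s.hom hg.minimal
  have h' : (∀ (j k : Over i) (a : j ⟶ k), IsSchemeTheoreticallyDominant (T.map a).hom) ∨
      LocallyOfFinitePresentation y.hom :=
    h.imp (fun hd j k a => dominant_refineSys P i s hs hg.minimal hg.affine hd a) id
  have hcompat : ∀ {j k : Over i} (a : j ⟶ k),
      T.map a ≫ refineσ P i s.hom k ≫ t k.left = refineσ P i s.hom j ≫ t j.left := fun {j k} a => by
    rw [← Category.assoc, refineSys_σ, Category.assoc, ht]
  obtain ⟨j, fj, hfj, hfj'⟩ := exists_factor (P := T) hd y (fun j => refineσ P i s.hom j ≫ t j.left)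
    hcompat h' (g ≫ f) (fun j => by
      rw [Category.assoc, hfy, reassoc_of% hgρ, reassoc_of% (hdσ j), hx])
  haveI := isIso_Q _ (isAdm_refineσ P i s hs hg.minimal j)
  refine ⟨j.left, inv (Q.{u}.map (refineσ P i s.hom j)) ≫ Q.{u}.map fj, ?_, ?_⟩
  · rw [Category.assoc, IsIso.inv_comp_eq, ← Q.{u}.map_comp, ← Q.{u}.map_comp, hfj]
  · haveI := isIso_Q _ hσ
    rw [← cancel_epi (Q.{u}.map σ)]
    rw [← Category.assoc, ← Q.{u}.map_comp, ← hdσ j, Q.{u}.map_comp, Category.assoc,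
      IsIso.hom_inv_id_assoc, ← Q.{u}.map_comp, hfj', ← hgρ, Q.{u}.map_comp, Q.{u}.map_comp, Category.assoc,
      hρφ]

include hg ht in
theorem exists_eq_Q (i : I) (φ ψ : Q.{u}.obj (P.obj i) ⟶ Q.{u}.obj Y) (hφ : φ ≫ Q.{u}.map y = Q.{u}.map (t i))
    (hψ : ψ ≫ Q.{u}.map y = Q.{u}.map (t i)) (he : Q.{u}.map (c.π.app i) ≫ φ = Q.{u}.map (c.π.app i) ≫ ψ) :
    ∃ (j : I) (a : j ⟶ i), Q.{u}.map (P.map a) ≫ φ = Q.{u}.map (P.map a) ≫ ψ := by
  haveI := S18738.result.{u}
  obtain ⟨W₀, s₀, a₀, b₀, hs₀, ha₀, hb₀⟩ :=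
    H26ModPair.exists_common_denominator Q.{u} ModPair.Pair.admBlowup.{u} φ ψ
  have h2 : Q.{u}.map (a₀ ≫ y) = Q.{u}.map (s₀ ≫ t i) := by
    rw [Q.{u}.map_comp, Q.{u}.map_comp, ← ha₀, Category.assoc, hφ]
  have h3 : Q.{u}.map (b₀ ≫ y) = Q.{u}.map (s₀ ≫ t i) := by
    rw [Q.{u}.map_comp, Q.{u}.map_comp, ← hb₀, Category.assoc, hψ]
  obtain ⟨W₁, r₁, hr₁, hre₁⟩ := (MorphismProperty.map_eq_iff_precomp Q.{u} ModPair.Pair.admBlowup.{u} _ _).1 h2
  have h3' : Q.{u}.map (r₁ ≫ b₀ ≫ y) = Q.{u}.map (r₁ ≫ s₀ ≫ t i) := by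
    rw [Q.{u}.map_comp, Q.{u}.map_comp r₁, h3]
  obtain ⟨W, r₂, hr₂, hre₂⟩ := (MorphismProperty.map_eq_iff_precomp Q.{u} ModPair.Pair.admBlowup.{u} _ _).1 h3'
  obtain ⟨s, a, b, hs, hay, hby, ha, hb⟩ : ∃ (s : W ⟶ P.obj i) (a b : W ⟶ Y), Pair.admBlowup s ∧
      a ≫ y = s ≫ t i ∧ b ≫ y = s ≫ t i ∧ Q.{u}.map s ≫ φ = Q.{u}.map a ∧ Q.{u}.map s ≫ ψ = Q.{u}.map b :=
    ⟨(r₂ ≫ r₁) ≫ s₀, (r₂ ≫ r₁) ≫ a₀, (r₂ ≫ r₁) ≫ b₀, adm_comp (adm_comp hr₂ hr₁) hs₀,
      by simp only [Category.assoc, hre₁], by simpa only [Category.assoc] using hre₂,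
      by simp only [Q.{u}.map_comp, Category.assoc, ha₀], by simp only [Q.{u}.map_comp, Category.assoc, hb₀]⟩
  obtain ⟨d, σ, w, hd, hσ, hdσ, hdw, hws⟩ := exists_refine hg i s hs
  have hwab : Q.{u}.map (w ≫ a) = Q.{u}.map (w ≫ b) := by
    rw [Q.{u}.map_comp, Q.{u}.map_comp, ← ha, ← hb, ← Category.assoc, ← Category.assoc, ← Q.{u}.map_comp, hws,
      Q.{u}.map_comp, Category.assoc, Category.assoc, he]
  obtain ⟨Z, ρ, hρ, hρe⟩ := (MorphismProperty.map_eq_iff_precomp Q.{u} ModPair.Pair.admBlowup.{u} _ _).1 hwab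
  obtain ⟨k, W', s', hs', d', σ', w', g, hd', hσ', hdσ', hdw', hgρ⟩ := exists_dominating hd ρ hρ
  let T := refineSys P i s.hom hg.minimal
  let T' := refineSys T k s'.hom hd.minimal
  let A : ∀ l : Over k, T'.obj l ⟶ W := fun l =>
    refineW T k s' hs' hd.minimal l ≫ s' ≫ refineW P i s hs hg.minimal k
  have hA : ∀ {l m : Over k} (f : l ⟶ m), T'.map f ≫ A m = A l := fun {l m} f => by
    simp only [A]
    rw [← Category.assoc, refineW_map]
  have hAd : ∀ l, d'.π.app l ≫ A l = σ' ≫ w := fun l => by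
    show d'.π.app l ≫ refineW T k s' hs' hd.minimal l ≫ s' ≫ refineW P i s hs hg.minimal k = σ' ≫ w
    rw [reassoc_of% (refineW_fac T k s' hs' hd.minimal l), reassoc_of% (hdσ' l),
      refineW_map P i s hs hg.minimal l.hom, hdw]
  have hstr : ∀ {l m : Over k} (f : l ⟶ m), T'.map f ≫ A m ≫ s ≫ t i = A l ≫ s ≫ t i := fun f => by
    rw [← Category.assoc, hA]
  let l₀ : Over k := Over.mk (𝟙 k)
  obtain ⟨l, f, hl⟩ := exists_eq_stage hd' y (fun l => A l ≫ s ≫ t i) hstr (i := l₀) (A l₀ ≫ a) (A l₀ ≫ b)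
    (by rw [Category.assoc, hay]) (by rw [Category.assoc, hby])
    (by rw [reassoc_of% (hAd l₀), reassoc_of% (hAd l₀), ← hgρ, Category.assoc, Category.assoc, hρe])
  replace hl : A l ≫ a = A l ≫ b := by
    have e : T'.map f ≫ A l₀ = A l := hA f
    exact (congrArg (· ≫ a) e).symm.trans (((Category.assoc _ _ _).trans hl).trans
      ((Category.assoc _ _ _).symm.trans (congrArg (· ≫ b) e)))
  let σσ := refineσ T k s'.hom l ≫ refineσ P i s.hom l.left
  haveI := isIso_Q σσ (adm_comp (isAdm_refineσ T k s' hs' hd.minimal l)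
    (isAdm_refineσ P i s hs hg.minimal l.left))
  have hσσ : σσ ≫ P.map l.left.hom = A l ≫ s := by
    simp only [σσ, A, Category.assoc]
    rw [← refineW_fac P i s hs hg.minimal l.left, ← refineW_map P i s hs hg.minimal l.hom,
      Category.assoc, ← reassoc_of% (refineW_fac T k s' hs' hd.minimal l)]
  refine ⟨l.left.left, l.left.hom, ?_⟩
  rw [← cancel_epi (Q.{u}.map σσ), ← Category.assoc, ← Category.assoc, ← Q.{u}.map_comp, hσσ, Q.{u}.map_comp,
    Category.assoc, Category.assoc, ha, hb, ← Q.{u}.map_comp, ← Q.{u}.map_comp, hl]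

end main

end Groth.Agent.H26MPA
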