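import Groth.Agent.H26MPA.Colim
import Groth.Agent.H7Lim.Sections

/-!
# Effective Cartier divisors descend along systems with dominant projections
-/

set_option autoImplicit false
set_option backward.isDefEq.respectTransparency false

universe u

open CategoryTheory CategoryTheory.Limits AlgebraicGeometry TopologicalSpace
open Groth.Agent.H7Lim

namespace Groth.Agent.H26MPA

variable {I : Type u} [Category.{u} I] [IsCofiltered I] {D : I ⥤ Scheme.{u}} {c : Cone D}
  [∀ (i j : I) (t : i ⟶ j), IsAffineHom (D.map t)]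
  [∀ i, IsSchemeTheoreticallyDominant (c.π.app i)]

theorem app_preimage_injective (hc : IsLimit c) (i : I) (U : (D.obj i).Opens) :
    Function.Injective ((c.π.app i).app U) :=
  haveI := isAffineHom_π_app D c hc i
  (c.π.app i).app_injective U

theorem secπ_injective (hc : IsLimit c) {i j : I} (φ : j ⟶ i) (U : (D.obj i).Opens) :
    Function.Injective (secπ (c := c) φ U) := by
  haveI := isAffineHom_π_app D c hc j
  have h : secπ (c := c) φ U = (c.π.app j).app (D.map φ ⁻¹ᵁ U) ≫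
      c.pt.presheaf.map (homOfLE (π_preimage_le φ U)).op := rfl
  have he : c.π.app j ⁻¹ᵁ D.map φ ⁻¹ᵁ U = c.π.app i ⁻¹ᵁ U := by
    rw [← Scheme.Hom.comp_preimage, c.w φ]
  rw [h]
  intro a b hab
  simp only [CommRingCat.comp_apply] at hab
  refine (c.π.app j).app_injective _ ?_
  have hiso : (c.pt.presheaf.map (homOfLE (π_preimage_le φ U)).op) =
      c.pt.presheaf.map (eqToHom he.symm).op := by congr 1
  rw [hiso] at hab
  exact ((ConcreteCategory.isIso_iff_bijective (c.pt.presheaf.map (eqToHom he.symm).op)).1 inferInstance).1 hab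

/-- Principality on the preimage of an affine open descends. -/
theorem exists_principal_stage (hc : IsLimit c) (i : I) (J : (D.obj i).IdealSheafData)
    (V : (D.obj i).affineOpens) (hJ : (J.ideal V).FG) (g : Γ(c.pt, c.π.app i ⁻¹ᵁ V.1))
    (hg : (J.ideal V).map ((c.π.app i).app V.1).hom = Ideal.span {g}) :
    ∃ (j : I) (φ : j ⟶ i) (a : Γ(D.obj j, D.map φ ⁻¹ᵁ V.1)),
      (J.ideal V).map ((D.map φ).app V.1).hom = Ideal.span {a} := by
  classical
  obtain ⟨s, hs⟩ := hJ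
  rw [← hs, Ideal.map_span] at hg
  have h1 : g ∈ Ideal.span (((c.π.app i).app V.1).hom '' (s : Set Γ(D.obj i, V.1))) :=
    hg.ge (Ideal.mem_span_singleton_self g)
  have h2 : ∀ t : s, ∃ d, d * g = ((c.π.app i).app V.1).hom t.1 := fun t =>
    Ideal.mem_span_singleton'.1 (hg.le (Ideal.subset_span ⟨t.1, t.2, rfl⟩))
  choose d hd using h2
  rw [← Finset.coe_image] at h1
  obtain ⟨w, -, hw⟩ := (Submodule.mem_span_finset (R := Γ(c.pt, c.π.app i ⁻¹ᵁ V.1))).1 h1
  obtain ⟨j, φ, t, ht⟩ := exists_secπ_eq_finite hc V.2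
    (fun o : Option (s ⊕ (Finset.image ((c.π.app i).app V.1).hom s)) =>
      match o with
      | none => g
      | some (Sum.inl x) => d x
      | some (Sum.inr y) => w y.1)
  have hπ : ∀ x, secπ (c := c) φ V.1 (((D.map φ).app V.1).hom x) = ((c.π.app i).app V.1).hom x := fun x => by
    simp only [secπ, ← CommRingCat.comp_apply, Scheme.Hom.app_eq_appLE, Scheme.Hom.appLE_comp_appLE,
      c.w φ]
    rfl
  refine ⟨j, φ, t none, le_antisymm ?_ ((Ideal.span_singleton_le_iff_mem _).2 ?_)⟩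
  · rw [← hs, Ideal.map_span, Ideal.span_le]
    rintro _ ⟨x, hx, rfl⟩
    refine Ideal.mem_span_singleton'.2 ⟨t (some (Sum.inl ⟨x, hx⟩)), secπ_injective hc φ V.1 ?_⟩
    rw [map_mul, ht, ht, hπ]
    exact hd ⟨x, hx⟩
  · choose x hx hxy using fun y : (Finset.image ((c.π.app i).app V.1).hom s) => Finset.mem_image.1 y.2
    have hsum : t none = ∑ y : (Finset.image ((c.π.app i).app V.1).hom s),
        t (some (Sum.inr y)) * ((D.map φ).app V.1).hom (x y) := by
      refine secπ_injective hc φ V.1 ?_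
      rw [map_sum, ht]
      show g = _
      rw [← hw, ← Finset.sum_coe_sort]
      refine Finset.sum_congr rfl fun y _ => ?_
      rw [map_mul, ht, hπ, hxy]
      rfl
    rw [hsum]
    exact Ideal.sum_mem _ fun y _ => Ideal.mul_mem_left _ _
      (Ideal.mem_map_of_mem _ (hs.le (Ideal.subset_span (hx y))))

/-- A finite type ideal which is effective Cartier on the limit is so at all small stages. -/
theorem exists_isEff_stage (hc : IsLimit c) [∀ i, CompactSpace (D.obj i)]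
    [∀ i, QuasiSeparatedSpace (D.obj i)] (i : I) (J : (D.obj i).IdealSheafData)
    (hJ : ∀ A : (D.obj i).affineOpens, (J.ideal A).FG)
    (heff : BlowUp.IsEffCartierIdeal (J.comap (c.π.app i))) :
    ∃ (j : I) (φ : j ⟶ i), ∀ (k : I) (ψ : k ⟶ j), BlowUp.IsEffCartierIdeal (J.comap (D.map (ψ ≫ φ))) := by
  haveI := fun i => isAffineHom_π_app D c hc i
  haveI : ∀ {i j : I} (t : i ⟶ j), IsAffineHom (D.map t) := fun t => inferInstance
  let P := {U : c.pt.affineOpens // ∃ g : Γ(c.pt, U.1), (J.comap (c.π.app i)).ideal U = Ideal.span {g}}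
  have hP : IsOpenCover (fun U : P => U.1.1) := by
    refine IsOpenCover.mk (top_le_iff.1 fun x _ => ?_)
    obtain ⟨U, hxU, g, -, hg⟩ := heff x
    exact Opens.mem_iSup.2 ⟨⟨U, g, hg⟩, hxU⟩
  obtain ⟨i', T, V, hV, hVU⟩ := Scheme.exists_isOpenCover_and_isAffine D c hc (fun U : P => U.1.1) hP
    fun U => U.1.2
  obtain ⟨i₁, ψ₀, ψ₁, -⟩ := IsCofilteredOrEmpty.cone_objs i i'
  let J₁ := J.comap (D.map ψ₀)
  have hJ₁ : J₁.comap (c.π.app i₁) = J.comap (c.π.app i) := by
    rw [← Scheme.IdealSheafData.comap_comp, c.w]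
  let V₁ : T → (D.obj i₁).affineOpens := fun U => ⟨D.map ψ₁ ⁻¹ᵁ V U, (hVU U).1.preimage _⟩
  obtain ⟨j₀, φ₀, hj₀⟩ := exists_common_stage i₁
    (fun (U : T) k φ => ∃ a : Γ(D.obj k, D.map φ ⁻¹ᵁ (V₁ U).1),
      (J₁.ideal (V₁ U)).map ((D.map φ).app (V₁ U).1).hom = Ideal.span {a})
    (fun U => by
      obtain ⟨g, hg⟩ := U.1.2
      have he : c.π.app i₁ ⁻¹ᵁ (V₁ U).1 = U.1.1.1 := by
        show c.π.app i₁ ⁻¹ᵁ (D.map ψ₁ ⁻¹ᵁ V U) = _
        rw [← Scheme.Hom.comp_preimage, c.w, ← (hVU U).2]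
      let O : c.pt.affineOpens := ⟨c.π.app i₁ ⁻¹ᵁ (V₁ U).1, (V₁ U).2.preimage _⟩
      refine exists_principal_stage hc i₁ J₁ (V₁ U) (fg_comap _ J hJ _)
        ((c.pt.presheaf.map (homOfLE he.le).op).hom g) ?_
      rw [← ideal_comap_preimage, hJ₁,
        ← (J.comap (c.π.app i)).map_ideal (U := O) (V := U.1.1) he.le, hg, Ideal.map_span,
        Set.image_singleton]
      rfl)
    (fun U k k' φ ψ ⟨a, ha⟩ => ⟨secMap φ ψ (V₁ U).1 a, by
      have e : ((D.map (ψ ≫ φ)).app (V₁ U).1).hom =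
          (secMap φ ψ (V₁ U).1).hom.comp ((D.map φ).app (V₁ U).1).hom := by
        rw [← CommRingCat.hom_comp]
        congr 1
        simp only [secMap, Scheme.Hom.app_eq_appLE, Scheme.Hom.appLE_comp_appLE, ← D.map_comp]
      rw [e, ← Ideal.map_map, ha, Ideal.map_span, Set.image_singleton]⟩)
  refine ⟨j₀, φ₀ ≫ ψ₀, fun k ψ => fun x => ?_⟩
  obtain ⟨U, hU⟩ := hV.exists_mem (D.map ψ₁ (D.map (ψ ≫ φ₀) x))
  let W : (D.obj k).affineOpens := ⟨D.map (ψ ≫ φ₀) ⁻¹ᵁ (V₁ U).1, (V₁ U).2.preimage _⟩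
  obtain ⟨a, ha⟩ := hj₀ U
  let b : Γ(D.obj k, W.1) := secMap φ₀ ψ (V₁ U).1 a
  have hb : (J.comap (D.map (ψ ≫ φ₀ ≫ ψ₀))).ideal W = Ideal.span {b} := by
    rw [show D.map (ψ ≫ φ₀ ≫ ψ₀) = D.map (ψ ≫ φ₀) ≫ D.map ψ₀ by simp only [D.map_comp, Category.assoc],
      Scheme.IdealSheafData.comap_comp]
    refine (ideal_comap_preimage (D.map (ψ ≫ φ₀)) J₁ (V₁ U)).trans ?_
    have e : ((D.map (ψ ≫ φ₀)).app (V₁ U).1).hom =
        (secMap φ₀ ψ (V₁ U).1).hom.comp ((D.map φ₀).app (V₁ U).1).hom := by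
      rw [← CommRingCat.hom_comp]
      congr 1
      simp only [secMap, Scheme.Hom.app_eq_appLE, Scheme.Hom.appLE_comp_appLE, ← D.map_comp]
    rw [e, ← Ideal.map_map, ha, Ideal.map_span, Set.image_singleton]
  refine ⟨W, hU, b, ?_, hb⟩
  rw [mem_nonZeroDivisors_iff_right]
  intro z hz
  refine app_preimage_injective hc k W.1 ?_
  rw [map_zero]
  refine (mem_nonZeroDivisors_iff_right.1 ?_) _ (by rw [← map_mul, hz, map_zero] :
    ((c.π.app k).app W.1).hom z * ((c.π.app k).app W.1).hom b = 0)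
  refine nzd_of_principal heff ⟨c.π.app k ⁻¹ᵁ W.1, W.2.preimage _⟩ _ ?_
  have e : J.comap (c.π.app i) = (J.comap (D.map (ψ ≫ φ₀ ≫ ψ₀))).comap (c.π.app k) := by
    rw [← Scheme.IdealSheafData.comap_comp, c.w]
  rw [e, ideal_comap_preimage, hb, Ideal.map_span, Set.image_singleton]
  rfl

end Groth.Agent.H26MPA
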