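import Groth.Prelude.Def_Curves
import Groth.Agent.S7198
import Mathlib.LinearAlgebra.Dimension.OrzechProperty
import Mathlib.RingTheory.AdjoinRoot
import Mathlib.RingTheory.LocalRing.Module

/-!
# fppf-local local rings

A local ring is fppf-local as soon as its nonzero finite free algebras have retractions, and that
property passes to localisations at nonzerodivisors.
-/

set_option autoImplicit false
set_option backward.isDefEq.respectTransparency false

universe u

open CategoryTheory CategoryTheory.Limits AlgebraicGeometry TopologicalSpace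

namespace Groth.Agent.H26MPA

/-- Every nonzero finite free algebra has a retraction. -/
def HasFreeRetractions (A : Type u) [CommRing A] : Prop :=
  ∀ (C : Type u) [CommRing C] [Algebra A C], Module.Finite A C → Module.Free A C → Nontrivial C →
    Nonempty (C →ₐ[A] A)

/-- The fppf coverings. -/
abbrev fppfProp : MorphismProperty Scheme.{u} :=
  @Flat ⊓ @LocallyOfFinitePresentation ⊓ @QuasiCompact ⊓ @QuasiSeparated

theorem isAIC_of_hasFreeRetractions {A : Type u} [CommRing A] (h : HasFreeRetractions A) :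
    Curves.IsAIC A := by
  intro f hf hd
  nontriviality A
  haveI : Nontrivial (AdjoinRoot f) := nontrivial_of_ne _ _
    ((AdjoinRoot.powerBasis' hf).basis.ne_zero ⟨0, by rwa [AdjoinRoot.powerBasis'_dim]⟩)
  obtain ⟨σ⟩ := h (AdjoinRoot f) hf.finite_adjoinRoot hf.free_adjoinRoot inferInstance
  refine ⟨σ (AdjoinRoot.root f), ?_⟩
  have h1 := congrArg σ (AdjoinRoot.eval₂_root f)
  rw [map_zero] at h1
  rw [← AdjoinRoot.algebraMap_eq, ← Polynomial.aeval_def, ← Polynomial.aeval_algHom_apply] at h1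
  rw [Polynomial.coe_aeval_eq_eval] at h1
  exact h1

/-- A basis of a nonzero finite free algebra over a local ring may be taken through `1`. -/
theorem exists_basis_one {M C : Type u} [CommRing M] [IsLocalRing M] [CommRing C] [Algebra M C]
    [Module.Finite M C] [Module.Free M C] [Nontrivial C] :
    ∃ (ι : Type u) (_ : Fintype ι) (_ : DecidableEq ι) (e : Module.Basis ι M C) (i₀ : ι), e i₀ = 1 := by
  classical
  let ι := Module.Free.ChooseBasisIndex M C
  let b := Module.Free.chooseBasis M C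
  obtain ⟨i₀, hi₀⟩ : ∃ i, IsUnit (b.repr 1 i) := by
    by_contra hne
    push_neg at hne
    have h1 : (1 : C) ∈ IsLocalRing.maximalIdeal M • (⊤ : Submodule M C) := by
      rw [← b.sum_repr 1]
      exact Submodule.sum_mem _ fun i _ => Submodule.smul_mem_smul (hne i) trivial
    have h2 : (⊤ : Submodule M C) ≤ IsLocalRing.maximalIdeal M • ⊤ := by
      intro c _
      have := Submodule.smul_induction_on (p := fun z => c * z ∈ IsLocalRing.maximalIdeal M • (⊤ : Submodule M C)) h1
        (fun r hr z _ => by rw [Algebra.mul_smul_comm]; exact Submodule.smul_mem_smul hr trivial)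
        (fun z z' hz hz' => by rw [mul_add]; exact add_mem hz hz')
      rwa [mul_one] at this
    exact top_ne_bot (Submodule.eq_bot_of_le_smul_of_le_jacobson_bot (IsLocalRing.maximalIdeal M) ⊤
      Module.Finite.fg_top h2 (IsLocalRing.maximalIdeal_le_jacobson _))
  let e : ι → C := Function.update b i₀ 1
  have hspan : ⊤ ≤ Submodule.span M (Set.range e) := by
    have hoth : ∀ i ≠ i₀, b i ∈ Submodule.span M (Set.range e) := fun i hi =>
      Submodule.subset_span ⟨i, Function.update_of_ne hi _ _⟩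
    have h0 : b i₀ ∈ Submodule.span M (Set.range e) := by
      obtain ⟨u, hu⟩ := hi₀
      have h1 : (u : M) • b i₀ + ∑ i ∈ Finset.univ.erase i₀, b.repr 1 i • b i = 1 := by
        rw [hu, Finset.add_sum_erase _ (fun i => b.repr 1 i • b i) (Finset.mem_univ i₀)]
        exact b.sum_repr 1
      have h2 : b i₀ = (↑u⁻¹ : M) • ((1 : C) - ∑ i ∈ Finset.univ.erase i₀, b.repr 1 i • b i) := by
        rw [← eq_sub_of_add_eq h1, smul_smul, Units.inv_mul, one_smul]
      rw [h2]
      refine Submodule.smul_mem _ _ (sub_mem (Submodule.subset_span ⟨i₀, Function.update_self _ _ _⟩)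
        (Submodule.sum_mem _ fun i hi => Submodule.smul_mem _ _ (hoth i (Finset.ne_of_mem_erase hi))))
    rw [← b.span_eq, Submodule.span_le]
    rintro _ ⟨i, rfl⟩
    by_cases hi : i = i₀
    · exact hi ▸ h0
    · exact hoth i hi
  exact ⟨ι, inferInstance, inferInstance,
    basisOfTopLeSpanOfCardEqFinrank e hspan (Module.finrank_eq_card_basis b).symm, i₀, by
      rw [coe_basisOfTopLeSpanOfCardEqFinrank]; exact Function.update_self _ _ _⟩

/-- Retractions of finite free algebras pass to local rings of fractions by nonzerodivisors. -/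
theorem hasFreeRetractions_localization {A M : Type u} [CommRing A] [CommRing M] [Algebra A M]
    (S : Submonoid A) (hS : S ≤ nonZeroDivisors A) [IsLocalization S M] [IsLocalRing M]
    (h : HasFreeRetractions A) : HasFreeRetractions M := by
  intro C _ _ hfin hfree hnt
  classical
  obtain ⟨ι, _, _, e, i₀, he₀⟩ := exists_basis_one (M := M) (C := C)
  letI : Algebra A C := ((algebraMap M C).comp (algebraMap A M)).toAlgebra
  haveI : IsScalarTower A M C := IsScalarTower.of_algebraMap_eq fun _ => rfl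
  obtain ⟨⟨d, hd⟩, hint⟩ := IsLocalization.exist_integer_multiples_of_finset S
    ((Finset.univ : Finset (ι × ι × ι)).image fun x => e.repr (e x.1 * e x.2.1) x.2.2)
  have hu : IsUnit (algebraMap A M d) := IsLocalization.map_units M (⟨d, hd⟩ : S)
  let w : ι → Mˣ := fun i => if i = i₀ then 1 else hu.unit
  let f : Module.Basis ι M C := e.unitsSMul w
  have hf : ∀ i, f i = (w i : M) • e i := fun i => (e.unitsSMul_apply i).trans (Units.smul_def _ _)
  have hf₀ : f i₀ = 1 := by rw [hf]; simp [w, he₀]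
  have hfs : ∀ i, i ≠ i₀ → f i = d • e i := fun i hi => by
    rw [hf, ← algebraMap_smul M d (e i)]; simp [w, hi]
  let N : Submodule A C := Submodule.span A (Set.range f)
  have hfN : ∀ i, f i ∈ N := fun i => Submodule.subset_span ⟨i, rfl⟩
  have hone : (1 : C) ∈ N := hf₀ ▸ hfN i₀
  have hde : ∀ k, d • e k ∈ N := fun k => by
    by_cases hk : k = i₀
    · rw [hk, he₀]; exact N.smul_mem d hone
    · exact hfs k hk ▸ hfN k
  have hmulb : ∀ i j, f i * f j ∈ N := fun i j => by
    by_cases hi : i = i₀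
    · rw [hi, hf₀, one_mul]; exact hfN j
    by_cases hj : j = i₀
    · rw [hj, hf₀, mul_one]; exact hfN i
    rw [hfs i hi, hfs j hj, smul_mul_smul_comm, ← e.sum_repr (e i * e j), Finset.smul_sum]
    refine Submodule.sum_mem _ fun k _ => ?_
    obtain ⟨a, ha⟩ := hint (e.repr (e i * e j) k) (Finset.mem_image.2 ⟨(i, j, k), Finset.mem_univ _, rfl⟩)
    have h1 : (d * d) • e.repr (e i * e j) k • e k = a • d • e k := by
      rw [mul_smul, smul_comm d (e.repr (e i * e j) k) (e k), ← smul_assoc, ← ha, algebraMap_smul]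
    rw [h1]
    exact N.smul_mem a (hde k)
  have hmul : ∀ x y : C, x ∈ N → y ∈ N → x * y ∈ N := fun x y hx hy => by
    refine Submodule.span_induction (p := fun x _ => x * y ∈ N) ?_ ?_ ?_ ?_ hx
    · rintro _ ⟨i, rfl⟩
      refine Submodule.span_induction (p := fun y _ => f i * y ∈ N) ?_ ?_ ?_ ?_ hy
      · rintro _ ⟨j, rfl⟩; exact hmulb i j
      · simp
      · intro a b _ _ ha hb; rw [mul_add]; exact add_mem ha hb
      · intro a b _ hb; rw [Algebra.mul_smul_comm]; exact N.smul_mem a hb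
    · simp
    · intro a b _ _ ha hb; rw [add_mul]; exact add_mem ha hb
    · intro a b _ hb; rw [Algebra.smul_mul_assoc]; exact N.smul_mem a hb
  let C₀ : Subalgebra A C := N.toSubalgebra hone hmul
  let g : ι → C₀ := fun i => ⟨f i, hfN i⟩
  have hinj : Function.Injective (algebraMap A M) := IsLocalization.injective M hS
  have hli : LinearIndependent A g := by
    refine LinearIndependent.of_comp C₀.val.toLinearMap ?_
    exact f.linearIndependent.restrict_scalars (by
      intro a b hab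
      exact hinj (by simpa [Algebra.smul_def] using hab))
  have hsp : ⊤ ≤ Submodule.span A (Set.range g) := by
    rintro ⟨x, hx⟩ -
    have hx' : x ∈ (Submodule.span A (Set.range g)).map C₀.val.toLinearMap := by
      rw [Submodule.map_span, ← Set.range_comp]; exact hx
    obtain ⟨z, hz, hzx⟩ := hx'
    rwa [show (⟨x, hx⟩ : C₀) = z from Subtype.ext hzx.symm]
  let g' : Module.Basis ι A C₀ := Module.Basis.mk hli hsp
  haveI : Nontrivial C₀ := ⟨0, 1, fun h01 => zero_ne_one (congrArg Subtype.val h01)⟩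
  obtain ⟨ρ⟩ := h C₀ (Module.Finite.of_basis g') (Module.Free.of_basis g') inferInstance
  let σ : C →ₗ[M] M := f.constr M fun i => algebraMap A M (ρ (g i))
  have hσ : ∀ x : C₀, σ x = algebraMap A M (ρ x) := by
    intro x
    have : (σ.restrictScalars A).comp C₀.val.toLinearMap =
        (Algebra.linearMap A M).comp ρ.toLinearMap := g'.ext fun i => by
      show σ (g' i : C₀) = algebraMap A M (ρ (g' i))
      rw [Module.Basis.mk_apply]
      exact f.constr_basis M _ i
    exact LinearMap.congr_fun this x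
  refine ⟨AlgHom.ofLinearMap σ ?_ ?_⟩
  · rw [show (1 : C) = ((1 : C₀) : C) from rfl, hσ, map_one, map_one]
  · intro x y
    have : (LinearMap.mul M C).compr₂ σ = (LinearMap.mul M M).compl₁₂ σ σ := f.ext fun i => f.ext fun j => by
      show σ ((g i : C) * (g j : C)) = σ (g i : C) * σ (g j : C)
      rw [← Subalgebra.coe_mul, hσ, hσ, hσ, map_mul, map_mul]
    exact LinearMap.congr_fun (LinearMap.congr_fun this x) y

/-- An affine fppf-local scheme has retractions of finite free algebras. -/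
theorem hasFreeRetractions_of_fppfLocal (P : Scheme.{u}) [IsAffine P]
    (h : ∀ (X : Scheme.{u}) (R : Presieve X), R ∈ Scheme.precoverage fppfProp.{u} X →
        ∀ g : P ⟶ X, ∃ (Y : Scheme.{u}) (w : Y ⟶ X) (f : P ⟶ Y), R w ∧ f ≫ w = g) :
    HasFreeRetractions Γ(P, ⊤) := by
  intro C _ _ hfin hfree hnt
  haveI : Nontrivial Γ(P, ⊤) := (algebraMap Γ(P, ⊤) C).domain_nontrivial
  let φ := CommRingCat.ofHom (algebraMap Γ(P, ⊤) C)
  haveI := H9fp C
  obtain ⟨⟨_, _, _⟩, hsj⟩ := H8Props.FppfTower.isFinLocFree_SpecMap (A := Γ(P, ⊤)) (B := C)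
  obtain ⟨Y, w, f, ⟨⟨⟩⟩, hf⟩ := h (Spec Γ(P, ⊤))
    (Presieve.ofArrows (fun _ : PUnit.{u + 1} => Spec (CommRingCat.of C)) fun _ => Spec.map φ) (by
      rw [Scheme.ofArrows_mem_precoverage_iff]
      refine ⟨fun x => ?_, fun _ => ⟨⟨⟨inferInstance, inferInstance⟩, inferInstance⟩, inferInstance⟩⟩
      obtain ⟨y, hy⟩ := hsj.surj x
      exact ⟨PUnit.unit, y, hy⟩) P.isoSpec.hom
  obtain ⟨ψ, hψ⟩ := Spec.map_surjective (P.isoSpec.inv ≫ f)
  have hφψ : φ ≫ ψ = 𝟙 _ := Spec.map_injective (by
    rw [Spec.map_comp, hψ, Spec.map_id, Category.assoc, hf, Iso.inv_hom_id]; rfl)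
  exact ⟨{ ψ.hom with commutes' := fun a => congrArg (fun f => f.hom a) hφψ }⟩
where
  H9fp (C : Type u) [CommRing C] [Algebra Γ(P, ⊤) C] [Module.Finite Γ(P, ⊤) C] [Module.Free Γ(P, ⊤) C] :
      Algebra.FinitePresentation Γ(P, ⊤) C :=
    haveI := Module.finitePresentation_of_projective Γ(P, ⊤) C
    Algebra.FinitePresentation.of_finitePresentation _ _

/-- Sections of finite locally free surjections to a local scheme. -/
theorem exists_section_finLocFree {A : CommRingCat.{u}} [IsLocalRing A] (hA : HasFreeRetractions A)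
    {W : Scheme.{u}} (π : W ⟶ Spec A) (hπ : Mor2.IsFinLocFree π) (hs : Surjective π) :
    ∃ s : Spec A ⟶ W, s ≫ π = 𝟙 _ := by
  obtain ⟨_, _, _⟩ := hπ
  haveI : IsAffine W := isAffine_of_isAffineHom π
  obtain ⟨φ, hφ⟩ := Spec.map_surjective (W.isoSpec.inv ≫ π)
  have hfin : φ.hom.Finite := by rw [← IsFinite.SpecMap_iff, hφ]; infer_instance
  have hflat : φ.hom.Flat := by rw [← HasRingHomProperty.Spec_iff (P := @Flat), hφ]; infer_instance
  have hfp : φ.hom.FinitePresentation := by
    rw [← HasRingHomProperty.Spec_iff (P := @LocallyOfFinitePresentation), hφ]; infer_instance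
  algebraize [φ.hom]
  haveI : Module.FinitePresentation A Γ(W, ⊤) :=
    Module.FinitePresentation.of_finite_of_finitePresentation _ _
  haveI : Module.Free A Γ(W, ⊤) := Module.free_of_flat_of_isLocalRing
  haveI : Nontrivial Γ(W, ⊤) := by
    obtain ⟨w, -⟩ := hs.surj (IsLocalRing.closedPoint A)
    haveI : Nonempty (Spec Γ(W, ⊤)) := ⟨W.isoSpec.hom w⟩
    exact PrimeSpectrum.nonempty_iff_nontrivial.mp (inferInstanceAs (Nonempty (Spec Γ(W, ⊤))))
  obtain ⟨σ⟩ := hA Γ(W, ⊤) inferInstance inferInstance inferInstance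
  refine ⟨Spec.map (CommRingCat.ofHom σ.toRingHom) ≫ W.isoSpec.inv, ?_⟩
  rw [Category.assoc, ← hφ, ← Spec.map_comp,
    show φ ≫ CommRingCat.ofHom σ.toRingHom = 𝟙 _ from CommRingCat.hom_ext (RingHom.ext σ.commutes),
    Spec.map_id]

/-- A local affine scheme whose finite free algebras have retractions is fppf-local. -/
theorem fppfLocal_of_hasFreeRetractions (P : Scheme.{u}) [IsAffine P] [IsLocalRing Γ(P, ⊤)]
    (hA : HasFreeRetractions Γ(P, ⊤)) (X : Scheme.{u}) (R : Presieve X)
    (hR : R ∈ Scheme.precoverage fppfProp.{u} X) (g : P ⟶ X) :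
    ∃ (Y : Scheme.{u}) (w : Y ⟶ X) (f : P ⟶ Y), R w ∧ f ≫ w = g := by
  obtain ⟨ι, Z, v, rfl⟩ := Presieve.exists_eq_ofArrows R
  rw [Scheme.ofArrows_mem_precoverage_iff] at hR
  obtain ⟨hcov, hv⟩ := hR
  let g' : Spec Γ(P, ⊤) ⟶ X := P.isoSpec.inv ≫ g
  let E : PreZeroHypercover (Spec Γ(P, ⊤)) :=
    { I₀ := ι, X := fun i => pullback g' (v i), f := fun i => pullback.fst g' (v i) }
  let c : Spec Γ(P, ⊤) := IsLocalRing.closedPoint Γ(P, ⊤)
  obtain ⟨U, W, π, hcU, hπ, hπs, hW⟩ := S7198.result E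
    (fun i => by obtain ⟨⟨⟨_, _⟩, _⟩, _⟩ := hv i; exact inferInstanceAs (Flat (pullback.fst g' (v i))))
    (fun i => by
      obtain ⟨⟨⟨_, _⟩, _⟩, _⟩ := hv i
      exact inferInstanceAs (LocallyOfFinitePresentation (pullback.fst g' (v i))))
    (fun s => by
      obtain ⟨i, y, hy⟩ := hcov (g' s)
      obtain ⟨z, hz, -⟩ := Scheme.Pullback.exists_preimage_pullback (f := g') (g := v i) s y hy.symm
      exact ⟨i, z, hz⟩) c
  have hU : U = ⊤ := top_le_iff.1 fun x _ =>
    (IsLocalRing.specializes_closedPoint x).mem_open U.2 hcU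
  subst hU
  haveI := hπ.1; haveI := hπ.2.1; haveI := hπ.2.2; haveI := hπs
  haveI : IsIso (⊤ : (Spec Γ(P, ⊤)).Opens).ι := inferInstanceAs (IsIso (Spec Γ(P, ⊤)).topIso.hom)
  obtain ⟨hπ', hπs'⟩ := H8Props.FppfTower.isFinLocFree_comp_iso hπ hπs (⊤ : (Spec Γ(P, ⊤)).Opens).ι
  obtain ⟨σ, hσ⟩ := exists_section_finLocFree hA _ hπ' hπs'
  obtain ⟨W', T, ρ, i, r, hwW, hρ, hρs, hr⟩ := hW (σ c)
  have hrange : Set.range σ ⊆ (W' : Set W) := by
    rintro _ ⟨x, rfl⟩
    exact ((IsLocalRing.specializes_closedPoint x).map σ.continuous).mem_open W'.2 hwW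
  let σ' : Spec Γ(P, ⊤) ⟶ W'.toScheme := IsOpenImmersion.lift W'.ι σ (by
    rw [Scheme.Opens.range_ι]; exact hrange)
  haveI := hρ.1; haveI := hρ.2.1; haveI := hρ.2.2; haveI := hρs
  obtain ⟨τ, hτ⟩ := exists_section_finLocFree hA (pullback.fst σ' ρ)
    ⟨inferInstance, inferInstance, inferInstance⟩ inferInstance
  refine ⟨Z i, v i, P.isoSpec.hom ≫ τ ≫ pullback.snd σ' ρ ≫ r ≫ pullback.snd g' (v i), ⟨i⟩, ?_⟩
  have h1 : (τ ≫ pullback.snd σ' ρ ≫ r) ≫ pullback.fst g' (v i) = 𝟙 _ := by
    rw [Category.assoc, Category.assoc, show r ≫ pullback.fst g' (v i) = ρ ≫ W'.ι ≫ π ≫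
      (⊤ : (Spec Γ(P, ⊤)).Opens).ι from hr, ← pullback.condition_assoc, reassoc_of% hτ,
      IsOpenImmersion.lift_fac_assoc]
    exact hσ
  simp only [Category.assoc]
  rw [← pullback.condition, reassoc_of% h1, Iso.hom_inv_id_assoc]

end Groth.Agent.H26MPA
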