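import Mathlib

/-!
# Local rings glued from a local ring and a valuation ring

For a local ring `A` and a nonzerodivisor `t`, every element being comparable to every power of `t`
under divisibility means that `A` is the gluing of the local ring `A[1/t]` and a valuation ring.
-/

set_option autoImplicit false

universe u

namespace Groth.Agent.H26MPA

variable {A : Type u} [CommRing A] (t : A)

/-- Every element is comparable with every power of `t`. -/
def ValGlue : Prop := ∀ (a : A) (n : ℕ), t ^ n ∣ a ∨ a ∣ t ^ n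

variable {t} (M : Type u) [CommRing M] [Algebra A M] [IsLocalization.Away t M]
  (ht : t ∈ nonZeroDivisors A)

include ht in
theorem algebraMap_away_injective : Function.Injective (algebraMap A M) :=
  IsLocalization.injective M ((Submonoid.powers_le).2 ht)

include ht in
theorem isUnit_away_iff (a : A) : IsUnit (algebraMap A M a) ↔ ∃ n : ℕ, a ∣ t ^ n := by
  constructor
  · intro h
    obtain ⟨b, hb⟩ := h.exists_right_inv
    obtain ⟨⟨c, ⟨_, m, rfl⟩⟩, hc⟩ := IsLocalization.surj (Submonoid.powers t) b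
    refine ⟨m, c, algebraMap_away_injective M ht ?_⟩
    simp only at hc
    rw [map_mul, ← hc, ← mul_assoc, hb, one_mul]
  · rintro ⟨n, hn⟩
    refine isUnit_of_dvd_unit (map_dvd (algebraMap A M) hn) ?_
    rw [map_pow]
    exact (IsLocalization.map_units M (⟨t, 1, pow_one t⟩ : Submonoid.powers t)).pow n

variable [IsLocalRing A]

include ht in
theorem not_dvd_pow_of_forall (hC : ValGlue t) {a : A} (ha : ¬ IsUnit (algebraMap A M a)) (n : ℕ) :
    t ^ n ∣ a :=
  (hC a n).resolve_right fun h => ha ((isUnit_away_iff M ht a).2 ⟨n, h⟩)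

include ht in
theorem exists_pow_mul (hC : ValGlue t) {a : A} (ha : ¬ IsUnit (algebraMap A M a)) (n : ℕ) :
    ∃ b, a = t ^ n * b ∧ ¬ IsUnit (algebraMap A M b) := by
  obtain ⟨b, rfl⟩ := not_dvd_pow_of_forall M ht hC ha n
  refine ⟨b, rfl, fun h => ha ?_⟩
  obtain ⟨m, hm⟩ := (isUnit_away_iff M ht b).1 h
  exact (isUnit_away_iff M ht _).2 ⟨n + m, by rw [pow_add]; exact mul_dvd_mul_left _ hm⟩

include ht in
theorem nontrivial_away : Nontrivial M :=
  (algebraMap_away_injective M ht).nontrivial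

include ht in
theorem isLocalRing_away (hC : ValGlue t) : IsLocalRing M := by
  haveI := nontrivial_away M ht
  refine IsLocalRing.of_nonunits_add ?_
  intro x y hx hy
  obtain ⟨⟨a, ⟨_, n, rfl⟩⟩, ha⟩ := IsLocalization.surj (Submonoid.powers t) x
  obtain ⟨⟨b, ⟨_, m, rfl⟩⟩, hb⟩ := IsLocalization.surj (Submonoid.powers t) y
  simp only [map_pow] at ha hb
  have hu : ∀ k : ℕ, IsUnit (algebraMap A M t ^ k) := fun k =>
    (IsLocalization.map_units M (⟨t, 1, pow_one t⟩ : Submonoid.powers t)).pow k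
  have ha' : ¬ IsUnit (algebraMap A M a) := fun h => hx ((IsUnit.mul_iff.1 (ha ▸ h)).1)
  have hb' : ¬ IsUnit (algebraMap A M b) := fun h => hy ((IsUnit.mul_iff.1 (hb ▸ h)).1)
  intro hxy
  have hsum : IsUnit (algebraMap A M (t ^ m * a + t ^ n * b)) := by
    rw [map_add, map_mul, map_mul, map_pow, map_pow, ← ha, ← hb]
    have : algebraMap A M t ^ m * (x * algebraMap A M t ^ n) + algebraMap A M t ^ n * (y * algebraMap A M t ^ m)
        = (x + y) * (algebraMap A M t ^ n * algebraMap A M t ^ m) := by ring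
    rw [this]
    exact hxy.mul ((hu n).mul (hu m))
  obtain ⟨k, hk⟩ := (isUnit_away_iff M ht _).1 hsum
  have h1 : t ^ (k + 1) ∣ t ^ m * a + t ^ n * b :=
    dvd_add ((not_dvd_pow_of_forall M ht hC ha' _).mul_left _) ((not_dvd_pow_of_forall M ht hC hb' _).mul_left _)
  obtain ⟨e, he⟩ := h1.trans hk
  have hut : IsUnit t := by
    refine IsUnit.of_mul_eq_one e ?_
    have h2 : t ^ k * (t * e) = t ^ k * 1 := by rw [mul_one, ← mul_assoc, ← pow_succ, ← he]
    exact ((mul_cancel_left_mem_nonZeroDivisors (pow_mem ht k)).1 h2)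
  have hna : ∀ c : A, ¬ IsUnit (algebraMap A M c) → ¬ IsUnit c := fun c hc h => hc (h.map _)
  have hnu : t ^ m * a + t ^ n * b ∈ IsLocalRing.maximalIdeal A :=
    Ideal.add_mem _ (Ideal.mul_mem_left _ _ ((IsLocalRing.mem_maximalIdeal _).2 (hna a ha')))
      (Ideal.mul_mem_left _ _ ((IsLocalRing.mem_maximalIdeal _).2 (hna b hb')))
  exact (IsLocalRing.mem_maximalIdeal _).1 hnu (isUnit_of_dvd_unit hk (hut.pow k))

variable (q : Ideal A) (hq : ∀ a, a ∈ q ↔ ¬ IsUnit (algebraMap A M a))

include ht hq in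
theorem dvd_pow_of_notMem {a : A} (ha : a ∉ q) : ∃ n : ℕ, a ∣ t ^ n :=
  (isUnit_away_iff M ht a).1 (not_not.1 fun h => ha ((hq a).2 h))

include ht hq in
theorem mem_nonZeroDivisors_of_notMem {a : A} (ha : a ∉ q) : a ∈ nonZeroDivisors A := by
  obtain ⟨n, b, hb⟩ := dvd_pow_of_notMem M ht q hq ha
  exact (mul_mem_nonZeroDivisors.1 (hb ▸ pow_mem ht n)).1

include ht hq in
theorem algebraMap_atPrime_injective [q.IsPrime] :
    Function.Injective (algebraMap A (Localization.AtPrime q)) :=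
  IsLocalization.injective (M := q.primeCompl) _ fun _ ha => mem_nonZeroDivisors_of_notMem M ht q hq ha

include ht hq in
theorem valuationRing_quotient (hC : ValGlue t) [q.IsPrime] : ValuationRing (A ⧸ q) := by
  haveI : Nontrivial (A ⧸ q) := inferInstance
  refine ValuationRing.iff_dvd_total.2 ⟨fun x y => ?_⟩
  obtain ⟨a, rfl⟩ := Ideal.Quotient.mk_surjective x
  obtain ⟨b, rfl⟩ := Ideal.Quotient.mk_surjective y
  by_cases ha : a ∈ q
  · exact Or.inr ⟨0, by rw [mul_zero, (Ideal.Quotient.eq_zero_iff_mem).2 ha]⟩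
  obtain ⟨n, c, hc⟩ := dvd_pow_of_notMem M ht q hq ha
  have hcnz : c ∈ nonZeroDivisors A := (mul_mem_nonZeroDivisors.1 (hc ▸ pow_mem ht n)).2
  rcases hC (b * c) n with ⟨e, he⟩ | ⟨e, he⟩
  · refine Or.inl ⟨Ideal.Quotient.mk q e, ?_⟩
    rw [← map_mul]
    congr 1
    refine ((mul_cancel_right_mem_nonZeroDivisors hcnz).1 ?_)
    rw [he, hc]; ring
  · refine Or.inr ⟨Ideal.Quotient.mk q e, ?_⟩
    rw [← map_mul]
    congr 1
    refine ((mul_cancel_right_mem_nonZeroDivisors hcnz).1 ?_)
    rw [← hc, he]; ring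

include ht hq in
theorem bijOn_atPrime (hC : ValGlue t) [q.IsPrime] :
    Set.BijOn (algebraMap A (Localization.AtPrime q)) (q : Set A)
      (IsLocalRing.maximalIdeal (Localization.AtPrime q) : Set (Localization.AtPrime q)) := by
  refine ⟨fun a ha => (IsLocalization.AtPrime.to_map_mem_maximal_iff _ q a).2 ha,
    (algebraMap_atPrime_injective M ht q hq).injOn, fun x hx => ?_⟩
  obtain ⟨⟨a, ⟨s, hs⟩⟩, hxs⟩ := IsLocalization.surj q.primeCompl x
  simp only at hxs
  have ha : a ∈ q := by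
    rw [← IsLocalization.AtPrime.to_map_mem_maximal_iff (Localization.AtPrime q) q, ← hxs]
    exact Ideal.mul_mem_right _ _ hx
  obtain ⟨n, c, hc⟩ := dvd_pow_of_notMem M ht q hq hs
  obtain ⟨b, hab, hb⟩ := exists_pow_mul M ht hC ((hq a).1 ha) n
  refine ⟨c * b, Ideal.mul_mem_left _ _ ((hq b).2 hb), ?_⟩
  have hu := IsLocalization.map_units (Localization.AtPrime q) (⟨s, hs⟩ : q.primeCompl)
  refine hu.mul_right_cancel ?_
  rw [hxs, ← map_mul, hab, hc]
  congr 1
  ring

include ht hq in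
theorem valGlue_of_bijOn [q.IsPrime] [ValuationRing (A ⧸ q)]
    (hb : Set.BijOn (algebraMap A (Localization.AtPrime q)) (q : Set A)
      (IsLocalRing.maximalIdeal (Localization.AtPrime q) : Set (Localization.AtPrime q))) :
    ValGlue t := by
  have key : ∀ {a s : A}, a ∈ q → s ∉ q → s ∣ a := by
    intro a s ha hs
    obtain ⟨c, hc, hce⟩ := hb.2.2 (Ideal.mul_mem_right
      (IsLocalization.mk' (Localization.AtPrime q) (1 : A) (⟨s, hs⟩ : q.primeCompl)) _
      ((IsLocalization.AtPrime.to_map_mem_maximal_iff _ q a).2 ha))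
    refine ⟨c, (algebraMap_atPrime_injective M ht q hq) ?_⟩
    rw [map_mul, hce, mul_left_comm]
    have h1 : algebraMap A (Localization.AtPrime q) s *
        IsLocalization.mk' (Localization.AtPrime q) (1 : A) (⟨s, hs⟩ : q.primeCompl) = 1 :=
      (IsLocalization.mk'_spec' (Localization.AtPrime q) 1 (⟨s, hs⟩ : q.primeCompl)).trans (map_one _)
    rw [h1, mul_one]
  have htq : ∀ n, t ^ n ∉ q := fun n h => (hq _).1 h ((isUnit_away_iff M ht _).2 ⟨n, dvd_rfl⟩)
  intro a n
  by_cases ha : a ∈ q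
  · exact Or.inl (key ha (htq n))
  obtain ⟨c, hc⟩ := ValuationRing.cond (Ideal.Quotient.mk q a) (Ideal.Quotient.mk q (t ^ n))
  obtain ⟨c, rfl⟩ := Ideal.Quotient.mk_surjective c
  rw [← map_mul, ← map_mul, Ideal.Quotient.eq, Ideal.Quotient.eq] at hc
  rcases hc with hc | hc
  · right
    have h1 := key hc ha
    have : a ∣ a * c - (a * c - t ^ n) := dvd_sub (dvd_mul_right a c) h1
    rwa [sub_sub_cancel] at this
  · left
    have h1 := key hc (htq n)
    have : t ^ n ∣ t ^ n * c - (t ^ n * c - a) := dvd_sub (dvd_mul_right _ c) h1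
    rwa [sub_sub_cancel] at this

omit [IsLocalRing A] in
include ht in
/-- An element of `M` congruent to an element of `A` modulo nonunits comes from `A`. -/
theorem exists_eq_algebraMap [IsLocalRing A] (hC : ValGlue t) {x : M} (a : A)
    (hx : ¬ IsUnit (x - algebraMap A M a)) : ∃ b, algebraMap A M b = x := by
  obtain ⟨⟨c, ⟨_, n, rfl⟩⟩, hc⟩ := IsLocalization.surj (Submonoid.powers t) (x - algebraMap A M a)
  simp only at hc
  have hc' : ¬ IsUnit (algebraMap A M c) := fun h => hx (IsUnit.mul_iff.1 (hc ▸ h)).1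
  obtain ⟨b, rfl⟩ := not_dvd_pow_of_forall M ht hC hc' n
  refine ⟨b + a, ?_⟩
  have hu : IsUnit (algebraMap A M (t ^ n)) := by
    rw [map_pow]
    exact (IsLocalization.map_units M (⟨t, 1, pow_one t⟩ : Submonoid.powers t)).pow n
  refine hu.mul_right_cancel ?_
  rw [map_add, add_mul]
  rw [map_mul, sub_mul, sub_eq_iff_eq_add] at hc
  rw [hc]; ring

end Groth.Agent.H26MPA
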