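import Groth.Agent.H26MPA.ValGlue
import Groth.Agent.H26MPA.Basic
import Groth.Agent.H26ModPair.Basic
import Groth.Agent.H26Blow.Proper
import Groth.Agent.S18738
import Mathlib.AlgebraicGeometry.ValuativeCriterion

/-!
# Local modulus pairs and lifting along admissible blow-ups
-/

set_option autoImplicit false
set_option backward.isDefEq.respectTransparency false

universe u

open CategoryTheory CategoryTheory.Limits AlgebraicGeometry TopologicalSpace ModPair
open Groth.Agent.H26ModPair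

namespace Groth.Agent.H26MPA

section local_scheme

variable {P : Scheme.{u}} [IsAffine P] [IsLocalRing Γ(P, ⊤)]

/-- The closed point of a local affine scheme. -/
theorem exists_closed_point (P : Scheme.{u}) [IsAffine P] [IsLocalRing Γ(P, ⊤)] :
    ∃ p : P, IsClosed ({p} : Set P) ∧ ∀ x : P, x ⤳ p := by
  let cp : ↥(Spec Γ(P, ⊤)) := IsLocalRing.closedPoint Γ(P, ⊤)
  refine ⟨P.isoSpec.inv cp, ?_, fun x => ?_⟩
  · have := P.isoSpec.inv.homeomorph.isClosedMap _
      ((PrimeSpectrum.isClosed_singleton_iff_isMaximal cp).2 (IsLocalRing.maximalIdeal.isMaximal _))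
    rwa [Set.image_singleton] at this
  · have h := (IsLocalRing.specializes_closedPoint (P.isoSpec.hom x)).map P.isoSpec.inv.continuous
    rwa [← Scheme.Hom.comp_apply, Iso.hom_inv_id] at h

theorem specializes_of_isClosed {p : P} (hp : IsClosed ({p} : Set P)) (x : P) : x ⤳ p := by
  obtain ⟨q, -, hq⟩ := exists_closed_point P
  rw [← Set.mem_singleton_iff.1 ((hq p).mem_closed hp rfl)]
  exact hq x

end local_scheme

theorem eq_top_of_mem {P : Scheme.{u}} {p : P} (h : ∀ x : P, x ⤳ p) {U : P.Opens} (hp : p ∈ U) : U = ⊤ :=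
  top_le_iff.1 fun x _ => (h x).mem_open U.2 hp

theorem isUnit_res_iff {P : Scheme.{u}} (U : P.Opens) (a : Γ(P, ⊤)) :
    IsUnit ((P.presheaf.map (homOfLE (le_top : U ≤ ⊤)).op).hom a) ↔ U ≤ P.basicOpen a := by
  constructor
  · intro h
    have h1 := P.basicOpen_of_isUnit h
    rw [Scheme.basicOpen_res] at h1
    exact inf_eq_left.1 h1
  · intro h
    have h1 : IsUnit ((P.presheaf.map (homOfLE (P.basicOpen_le a)).op).hom a) :=
      RingedSpace.isUnit_res_basicOpen _ a
    have h2 := h1.map (P.presheaf.map (homOfLE h).op).hom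
    rwa [← CommRingCat.comp_apply, ← Functor.map_comp] at h2

/-- The prime ideal of a point all of whose open neighbourhoods contain `U`. -/
theorem mem_asIdeal_iff {P : Scheme.{u}} (U : P.Opens) (x : P) (hx : x ∈ U) (hU : ∀ y ∈ U, y ⤳ x)
    (a : Γ(P, ⊤)) :
    a ∈ (P.toSpecΓ.base x).asIdeal ↔ ¬ IsUnit ((P.presheaf.map (homOfLE (le_top : U ≤ ⊤)).op).hom a) := by
  rw [isUnit_res_iff]
  have h : x ∈ P.basicOpen a ↔ a ∉ (P.toSpecΓ.base x).asIdeal := by
    rw [← P.toSpecΓ_preimage_basicOpen a]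
    exact Iff.rfl
  constructor
  · exact fun ha hle => h.1 (hle hx) ha
  · intro hle
    by_contra ha
    exact hle fun y hy => (hU y hy).mem_open (P.basicOpen a).2 (h.2 ha)

/-- On a local affine modulus pair the modulus has a generator. -/
theorem exists_generator (P : Pair.{u}) [IsAffine P.total] [IsLocalRing Γ(P.total, ⊤)] :
    ∃ t : Γ(P.total, ⊤), t ∈ nonZeroDivisors Γ(P.total, ⊤) ∧
      P.mod.ideal ⟨⊤, isAffineOpen_top _⟩ = Ideal.span {t} ∧ ModPair.interior P.mod = P.total.basicOpen t := by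
  obtain ⟨p, -, hp⟩ := exists_closed_point P.total
  obtain ⟨V, hpV, t, ht, htV⟩ := P.isEffCartier p
  have hV : V = ⟨⊤, isAffineOpen_top _⟩ := Subtype.ext (eq_top_of_mem hp hpV)
  subst hV
  refine ⟨t, ht, htV, ?_⟩
  ext x
  have h := P.mod.coe_support_inter ⟨⊤, isAffineOpen_top _⟩
  rw [htV, Scheme.zeroLocus_span, Scheme.zeroLocus_singleton] at h
  have h' := Set.ext_iff.1 h x
  show x ∈ ((P.mod.support : Set P.total))ᶜ ↔ x ∈ P.total.basicOpen t
  constructor
  · intro hx
    by_contra hc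
    exact hx (h'.2 ⟨hc, trivial⟩).1
  · intro hx hs
    exact (h'.1 ⟨hs, trivial⟩).1 hx

theorem specializes_in_basicOpen {P : Scheme.{u}} (U : P.Opens) (hU : IsAffineOpen U)
    [IsLocalRing Γ((U : Scheme.{u}), ⊤)] (p : (U : Scheme.{u})) (hp : IsClosed ({p} : Set (U : Scheme.{u}))) :
    ∀ y ∈ U, y ⤳ U.ι p := by
  haveI : IsAffine (U : Scheme.{u}) := hU
  intro y hy
  exact (specializes_of_isClosed hp (⟨y, hy⟩ : (U : Scheme.{u}))).map U.ι.continuous

/-- An admissible modification of the spectrum of a glued local ring has a section. -/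
theorem exists_section_spec {A : CommRingCat.{u}} [IsLocalRing A] {t : A} (ht : t ∈ nonZeroDivisors A)
    (hC : ValGlue t) {Z : Scheme.{u}} (σ : Z ⟶ Spec A) [IsProper σ]
    (hiso : IsIso (σ ∣_ PrimeSpectrum.basicOpen t)) : ∃ s : Spec A ⟶ Z, s ≫ σ = 𝟙 _ := by
  let M := Localization.Away t
  haveI : IsLocalRing M := isLocalRing_away M ht hC
  let q : Ideal A := (IsLocalRing.maximalIdeal M).comap (algebraMap A M)
  haveI : q.IsPrime := Ideal.IsPrime.comap _
  have hq : ∀ a, a ∈ q ↔ ¬ IsUnit (algebraMap A M a) := fun a => IsLocalRing.mem_maximalIdeal _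
  haveI : ValuationRing (A ⧸ q) := valuationRing_quotient M ht q hq hC
  let R := A ⧸ q
  let K := FractionRing R
  have htq : t ∉ q := fun h => (hq t).1 h ((isUnit_away_iff M ht t).2 ⟨1, by rw [pow_one]⟩)
  let θ : A →+* K := (algebraMap R K).comp (Ideal.Quotient.mk q)
  have hθ : IsUnit (θ t) := by
    rw [isUnit_iff_ne_zero]
    intro h
    exact htq ((Ideal.Quotient.eq_zero_iff_mem).1 ((map_eq_zero_iff _ (IsFractionRing.injective R K)).1 h))
  let γ : M →+* K := IsLocalization.Away.lift t hθ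
  have hγ : γ.comp (algebraMap A M) = θ := IsLocalization.Away.lift_comp t hθ
  let ιM : Spec (CommRingCat.of M) ⟶ Spec A := Spec.map (CommRingCat.ofHom (algebraMap A M))
  have hr : Set.range ιM ⊆ Set.range (Scheme.Opens.ι (X := Spec A) (PrimeSpectrum.basicOpen t)) := by
    rw [Scheme.Opens.range_ι]
    exact (PrimeSpectrum.localization_away_comap_range M t).le
  let s₀ : Spec (CommRingCat.of M) ⟶ Z :=
    IsOpenImmersion.lift _ _ hr ≫ inv (σ ∣_ PrimeSpectrum.basicOpen t) ≫ Scheme.Opens.ι _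
  have hs₀ : s₀ ≫ σ = ιM := by
    simp only [s₀, Category.assoc]
    rw [← morphismRestrict_ι, IsIso.inv_hom_id_assoc, IsOpenImmersion.lift_fac]
  let g₁ : Spec (CommRingCat.of K) ⟶ Spec (CommRingCat.of M) := Spec.map (CommRingCat.ofHom γ)
  let g₂ : Spec (CommRingCat.of K) ⟶ Spec (CommRingCat.of R) := Spec.map (CommRingCat.ofHom (algebraMap R K))
  let i₂ : Spec (CommRingCat.of R) ⟶ Spec A := Spec.map (CommRingCat.ofHom (Ideal.Quotient.mk q))
  let S : ValuativeCommSq σ := { R := R, K := K, i₁ := g₁ ≫ s₀, i₂ := i₂, commSq := ⟨by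
    rw [Category.assoc, hs₀, ← Spec.map_comp, ← Spec.map_comp, ← CommRingCat.ofHom_comp,
      ← CommRingCat.ofHom_comp, hγ]⟩ }
  have hval : ValuativeCriterion σ := by
    have h : IsProper σ := inferInstance
    rw [IsProper.eq_valuativeCriterion] at h
    exact h.1.1.1
  obtain ⟨l⟩ := (ValuativeCriterion.existence hval S).exists_lift
  let lm : Spec (CommRingCat.of R) ⟶ Z := l.l
  have hl₁ : g₂ ≫ lm = g₁ ≫ s₀ := l.fac_left
  have hl₂ : lm ≫ σ = i₂ := l.fac_right
  -- an affine chart containing the image of the closed point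
  let z := lm (IsLocalRing.closedPoint R)
  obtain ⟨W, hW, hzW, -⟩ := exists_isAffineOpen_mem_and_subset (X := Z) (U := ⊤) (x := z) trivial
  haveI : IsAffine (W : Scheme.{u}) := hW
  have hlW : Set.range lm ⊆ Set.range W.ι := by
    rw [Scheme.Opens.range_ι]
    rintro _ ⟨x, rfl⟩
    exact ((IsLocalRing.specializes_closedPoint x).map lm.continuous).mem_open W.2 hzW
  have hsW : Set.range s₀ ⊆ Set.range W.ι := by
    rw [Scheme.Opens.range_ι]
    let g : ↥(Spec (CommRingCat.of K)) := IsLocalRing.closedPoint K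
    have hcl : g₁ g = IsLocalRing.closedPoint M := by
      refine PrimeSpectrum.ext ?_
      show (IsLocalRing.maximalIdeal K).comap γ = IsLocalRing.maximalIdeal M
      refine le_antisymm (IsLocalRing.le_maximalIdeal (Ideal.IsPrime.comap _).ne_top) fun x hx => ?_
      rw [Ideal.mem_comap, IsLocalRing.mem_maximalIdeal, mem_nonunits_iff, isUnit_iff_ne_zero, not_not]
      obtain ⟨⟨a, ⟨_, n, rfl⟩⟩, hxa⟩ := IsLocalization.surj (Submonoid.powers t) x
      simp only at hxa
      have hu : IsUnit (γ (algebraMap A M (t ^ n))) := by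
        rw [← RingHom.comp_apply, hγ, map_pow]; exact hθ.pow n
      refine hu.mul_left_eq_zero.1 ?_
      rw [← map_mul, hxa, ← RingHom.comp_apply, hγ]
      have : a ∈ q := (hq a).2 fun h => hx (IsUnit.mul_iff.1 (hxa ▸ h)).1
      show algebraMap R K (Ideal.Quotient.mk q a) = 0
      rw [(Ideal.Quotient.eq_zero_iff_mem).2 this, map_zero]
    have hg : s₀ (IsLocalRing.closedPoint M) ∈ W := by
      rw [← hcl]
      have e : (g₁ ≫ s₀) g = (g₂ ≫ lm) g := by rw [hl₁]
      show (g₁ ≫ s₀) g ∈ W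
      rw [e]
      exact hlW.trans_eq (Scheme.Opens.range_ι W) ⟨g₂ g, rfl⟩
    rintro _ ⟨x, rfl⟩
    exact ((IsLocalRing.specializes_closedPoint x).map s₀.continuous).mem_open W.2 hg
  obtain ⟨φ, hφ⟩ := Spec.map_surjective (IsOpenImmersion.lift W.ι s₀ hsW ≫ (W : Scheme.{u}).isoSpec.hom)
  obtain ⟨ψ, hψ⟩ := Spec.map_surjective (IsOpenImmersion.lift W.ι lm hlW ≫ (W : Scheme.{u}).isoSpec.hom)
  let incl : Spec Γ((W : Scheme.{u}), ⊤) ⟶ Z := (W : Scheme.{u}).isoSpec.inv ≫ W.ι
  have hφi : Spec.map φ ≫ incl = s₀ := by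
    rw [hφ, Category.assoc, Iso.hom_inv_id_assoc, IsOpenImmersion.lift_fac]
  have hψi : Spec.map ψ ≫ incl = lm := by
    rw [hψ, Category.assoc, Iso.hom_inv_id_assoc, IsOpenImmersion.lift_fac]
  obtain ⟨α, hα⟩ := Spec.map_surjective (incl ≫ σ)
  have hαφ : α ≫ φ = CommRingCat.ofHom (algebraMap A M) :=
    Spec.map_injective (by rw [Spec.map_comp, hα, ← Category.assoc, hφi, hs₀])
  have hK : φ ≫ CommRingCat.ofHom γ = ψ ≫ CommRingCat.ofHom (algebraMap R K) :=
    Spec.map_injective (by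
      rw [← cancel_mono incl, Spec.map_comp, Spec.map_comp, Category.assoc, Category.assoc, hφi, hψi]
      exact hl₁.symm)
  have hex : ∀ b, ∃ a, algebraMap A M a = φ.hom b := fun b => by
    obtain ⟨a, ha⟩ := Ideal.Quotient.mk_surjective (ψ.hom b)
    refine exists_eq_algebraMap M ht hC a fun hu => ?_
    have h1 : γ (φ.hom b - algebraMap A M a) = 0 := by
      rw [map_sub, ← RingHom.comp_apply γ (algebraMap A M), hγ]
      show γ (φ.hom b) - algebraMap R K (Ideal.Quotient.mk q a) = 0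
      rw [ha, sub_eq_zero]
      exact congr($(hK) b)
    exact (hu.map γ).ne_zero h1
  choose χ hχ using hex
  have hinj := algebraMap_away_injective M ht
  let χ' : Γ((W : Scheme.{u}), ⊤) →+* A :=
    { toFun := χ
      map_one' := hinj (by rw [hχ, map_one, map_one])
      map_zero' := hinj (by rw [hχ, map_zero, map_zero])
      map_mul' := fun x y => hinj (by rw [hχ, map_mul, map_mul, hχ, hχ])
      map_add' := fun x y => hinj (by rw [hχ, map_add, map_add, hχ, hχ]) }
  have hχα : α ≫ CommRingCat.ofHom χ' = 𝟙 A := by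
    ext a
    exact hinj ((hχ _).trans (congr($(hαφ) a)))
  exact ⟨Spec.map (CommRingCat.ofHom χ') ≫ incl, by
    rw [Category.assoc, ← hα, ← Spec.map_comp, hχα, Spec.map_id]⟩

/-- A glued local pair lifts along admissible blow-ups. -/
theorem exists_adm_lift (P : Pair.{u}) [IsAffine P.total] [IsLocalRing Γ(P.total, ⊤)] {t : Γ(P.total, ⊤)}
    (ht : t ∈ nonZeroDivisors Γ(P.total, ⊤)) (hU : ModPair.interior P.mod = P.total.basicOpen t)
    (hC : ValGlue t) {Q X : Pair.{u}} (q : Q ⟶ X) (hq : Pair.admBlowup q) (g : P ⟶ X) :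
    ∃ h : P ⟶ Q, h ≫ q = g := by
  obtain ⟨Z, π, g', heff, hadm, hamb, heq⟩ := S18738.exists_square P.isEffCartier g.cond hq
  obtain ⟨-, hπp, hπi⟩ := hadm
  haveI := hπp
  have hpre : P.total.isoSpec.hom ⁻¹ᵁ PrimeSpectrum.basicOpen t = ModPair.interior P.mod := by
    rw [hU]; exact P.total.toSpecΓ_preimage_basicOpen t
  haveI : IsIso ((π ≫ P.total.isoSpec.hom) ∣_ PrimeSpectrum.basicOpen t) := by
    rw [morphismRestrict_comp]
    haveI : IsIso (π ∣_ P.total.isoSpec.hom ⁻¹ᵁ PrimeSpectrum.basicOpen t) := by rw [hpre]; exact hπi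
    infer_instance
  obtain ⟨s, hs⟩ := exists_section_spec ht hC (π ≫ P.total.isoSpec.hom) inferInstance
  have hs' : (P.total.isoSpec.hom ≫ s) ≫ π = 𝟙 _ := by
    rw [← cancel_mono P.total.isoSpec.hom, Category.id_comp, Category.assoc, Category.assoc, hs,
      Category.comp_id]
  refine ⟨⟨(P.total.isoSpec.hom ≫ s) ≫ g', ?_⟩, Pair.Hom.ext ?_⟩
  · show P.mod ≤ _
    rw [Scheme.IdealSheafData.comap_comp]
    refine le_trans ?_ (Scheme.IdealSheafData.comap_mono _ hamb)
    show P.mod ≤ (P.mod.comap π).comap _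
    rw [← Scheme.IdealSheafData.comap_comp, hs', Scheme.IdealSheafData.comap_id]
  · show ((P.total.isoSpec.hom ≫ s) ≫ g') ≫ q.hom = g.hom
    rw [Category.assoc, ← heq, ← Category.assoc, hs', Category.id_comp]

/-- Lifting along admissible blow-ups makes a local pair glued. -/
theorem valGlue_of_lift (P : Pair.{u}) [IsAffine P.total] [IsLocalRing Γ(P.total, ⊤)] {t : Γ(P.total, ⊤)}
    (ht : t ∈ nonZeroDivisors Γ(P.total, ⊤)) (hU : ModPair.interior P.mod = P.total.basicOpen t)
    (hlift : ∀ (Q X : Pair.{u}) (q : Q ⟶ X), Pair.admBlowup q → ∀ g : P ⟶ X, ∃ h : P ⟶ Q, h ≫ q = g) :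
    ValGlue t := by
  intro a n
  let A := Γ(P.total, ⊤)
  let I : Ideal A := Ideal.span {t ^ (n + 1), t * a}
  let J : P.total.IdealSheafData := Scheme.IdealSheafData.ofIdealTop I
  have hJtop : J.ideal ⟨⊤, isAffineOpen_top _⟩ = I := by simp [J]
  have hle : ∀ x ∈ ModPair.interior P.mod, x ∉ J.support := by
    intro x hx hxJ
    rw [hU] at hx
    have h1 := (J.coe_support_inter ⟨⊤, isAffineOpen_top _⟩).le ⟨hxJ, trivial⟩
    rw [hJtop, Scheme.zeroLocus_span] at h1
    refine (Scheme.mem_zeroLocus_iff _ _ _).1 h1.1 (t ^ (n + 1)) (Set.mem_insert _ _) ?_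
    rwa [Scheme.basicOpen_pow _ _ (Nat.succ_pos n)]
  have hge : ModPair.interior J ≤ ModPair.interior P.mod := by
    intro x hx
    rw [hU]
    by_contra hc
    refine hx ?_
    have h2 := (J.coe_support_inter ⟨⊤, isAffineOpen_top _⟩).ge
    refine (h2 ⟨?_, trivial⟩).1
    rw [hJtop, Scheme.zeroLocus_span, Scheme.mem_zeroLocus_iff]
    intro f hf
    simp only [Set.mem_insert_iff, Set.mem_singleton_iff] at hf
    rcases hf with rfl | rfl
    · rwa [Scheme.basicOpen_pow _ _ (Nat.succ_pos n)]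
    · rw [Scheme.basicOpen_mul]
      exact fun h => hc h.1
  obtain ⟨Z, b, hb⟩ := H26Blow.exists_isBlowUp J
  haveI : IsProper b := H26Blow.isProper_of_isBlowUp_of_isAffine
    (by rw [hJtop]; exact Submodule.fg_span ((Set.finite_singleton (t * a)).insert (t ^ (n + 1)))) hb
  have heq : ModPair.interior J = ModPair.interior P.mod := le_antisymm hge hle
  have heff : BlowUp.IsEffCartierIdeal (P.mod.comap b) := by
    refine isEff_comap_of_dense P.isEffCartier b ?_
    rw [← heq, preimage_interior]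
    exact dense_interior hb.1
  let Q : Pair.{u} := ⟨Z, _, heff⟩
  let q : Q ⟶ P := ⟨b, le_rfl⟩
  obtain ⟨h, hh⟩ := hlift Q P q ⟨rfl, inferInstance, H29Blow.isIso_morphismRestrict hb _ hle⟩ (𝟙 P)
  have hh' : h.hom ≫ b = 𝟙 _ := congrArg Pair.Hom.hom hh
  obtain ⟨p, -, hp⟩ := exists_closed_point P.total
  obtain ⟨V, hpV, e, -, heV⟩ := hb.1 (h.hom p)
  have htopV : (⊤ : P.total.Opens) ≤ h.hom ⁻¹ᵁ V.1 :=
    (eq_top_of_mem hp (U := h.hom ⁻¹ᵁ V.1) hpV).ge
  obtain ⟨d, hd⟩ : ∃ d, I = Ideal.span {d} := by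
    refine ⟨(h.hom.appLE V.1 ⊤ htopV).hom e, ?_⟩
    rw [← hJtop]
    conv_lhs => rw [← J.comap_id, ← hh', Scheme.IdealSheafData.comap_comp]
    rw [H29Blow.ideal_comap _ h.hom V ⟨⊤, isAffineOpen_top _⟩ htopV, heV, Ideal.map_span,
      Set.image_singleton]
  obtain ⟨x, y, hxy⟩ := Ideal.mem_span_pair.1 (hd.ge (Ideal.mem_span_singleton_self d))
  obtain ⟨e', he'⟩ := Ideal.mem_span_singleton.1 (hd.le (Ideal.subset_span (Set.mem_insert _ _)))
  obtain ⟨a', ha'⟩ := Ideal.mem_span_singleton.1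
    (hd.le (Ideal.subset_span (Set.mem_insert_of_mem _ (Set.mem_singleton _))))
  have hdnz : d ∈ nonZeroDivisors A := (mul_mem_nonZeroDivisors.1 (he' ▸ pow_mem ht (n + 1))).1
  have h1 : x * e' + y * a' = 1 := by
    refine (mul_cancel_left_mem_nonZeroDivisors hdnz).1 ?_
    rw [mul_one, mul_add]
    conv_rhs => rw [← hxy, he', ha']
    ring
  rcases IsLocalRing.isUnit_or_isUnit_of_add_one h1 with hu | hu
  · left
    have hu' : IsUnit e' := (IsUnit.mul_iff.1 hu).2
    have h2 : t * t ^ n ∣ t * a := by rw [← pow_succ', he', ha']; exact mul_dvd_mul_left d hu'.dvd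
    exact (dvd_cancel_left_mem_nonZeroDivisors ht).1 h2
  · right
    have hu' : IsUnit a' := (IsUnit.mul_iff.1 hu).2
    have h2 : t * a ∣ t * t ^ n := by rw [← pow_succ', he', ha']; exact mul_dvd_mul_left d hu'.dvd
    exact (dvd_cancel_left_mem_nonZeroDivisors ht).1 h2

end Groth.Agent.H26MPA
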